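import Groth.Agent.GLinShLib.Inv
import Groth.Agent.GITAffLib.Stab

/-!
# The universal stabiliser: base change, identity section, translations
-/

set_option autoImplicit false
set_option backward.isDefEq.respectTransparency false
set_option synthInstance.maxHeartbeats 400000
set_option maxHeartbeats 1000000
set_option linter.style.haveILetI false

universe u

noncomputable section

open CategoryTheory CategoryTheory.Limits MonoidalCategory CartesianMonoidalCategory AlgebraicGeometry Topology
open scoped MonObj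

namespace GLinStab

section General

variable {S : Scheme.{u}} {G X : Over S} [GrpObj G]

theorem psi_snd {T : Over S} (a : AlgGrp.Action G X) (f : T ⟶ X) : GIT.psi a f ≫ snd X T = snd G T := by
  rw [GIT.psi, lift_snd]

theorem isPullback_psi {T : Over S} (a : AlgGrp.Action G X) (f : T ⟶ X) :
    IsPullback (G ◁ f).left (GIT.psi a f).left (GIT.psi a (𝟙 X)).left (X ◁ f).left := by
  have h1 : IsPullback (X ◁ f).left (snd X T).left (snd X X).left f.left := by
    rw [Over.snd_left, Over.snd_left]; exact Groth.Agent.FinHom.isPullback_whiskerLeft X f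
  have h2 : IsPullback (G ◁ f).left (snd G T).left (snd G X).left f.left := by
    rw [Over.snd_left, Over.snd_left]; exact Groth.Agent.FinHom.isPullback_whiskerLeft G f
  refine IsPullback.of_bot ?_ ?_ h1
  · rw [← Over.comp_left, ← Over.comp_left, psi_snd, psi_snd]
    exact h2
  · rw [← Over.comp_left, ← Over.comp_left]
    congr 1
    refine CartesianMonoidalCategory.hom_ext _ _ ?_ ?_ <;> simp [GIT.psi]

variable {T : Over S} (a : AlgGrp.Action G X)

theorem isPullback_stab (f : T ⟶ X) :
    ∃ t : GLinSh.stab a f ⟶ GLinSh.stab a (𝟙 X),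
      IsPullback t (GLinSh.stabTo a f) (GLinSh.stabTo a (𝟙 X)) f.left ∧
        t ≫ pullback.fst _ _ = pullback.fst _ _ ≫ (G ◁ f).left := by
  have h1 := ((IsPullback.of_hasPullback (GIT.psi a f).left (lift f (𝟙 T)).left).flip.paste_vert
    (isPullback_psi a f).flip).flip
  have e : (lift f (𝟙 T)).left ≫ (X ◁ f).left = f.left ≫ (lift (𝟙 X) (𝟙 X)).left := by
    rw [← Over.comp_left, ← Over.comp_left]
    congr 1
    refine CartesianMonoidalCategory.hom_ext _ _ ?_ ?_ <;> simp
  rw [e] at h1
  refine ⟨pullback.lift (pullback.fst _ _ ≫ (G ◁ f).left) (GLinSh.stabTo a f ≫ f.left)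
    (by rw [h1.w, Category.assoc]; rfl), ?_, pullback.lift_fst _ _ _⟩
  refine IsPullback.of_right ?_ (pullback.lift_snd _ _ _) (IsPullback.of_hasPullback _ _)
  rw [pullback.lift_fst]
  exact h1

/-- The identity section of the stabiliser. -/
def unitSec (f : T ⟶ X) : T.left ⟶ GLinSh.stab a f :=
  pullback.lift (lift (1 : T ⟶ G) (𝟙 T)).left (𝟙 T.left) (by
    rw [Category.id_comp, ← Over.comp_left]
    congr 1
    rw [GITAffLib.lift_psi, GITAffLib.lift_one_act])

theorem unitSec_stabTo (f : T ⟶ X) : unitSec a f ≫ GLinSh.stabTo a f = 𝟙 T.left :=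
  pullback.lift_snd _ _ _

theorem mono_fst (f : T ⟶ X) : Mono (pullback.fst (GIT.psi a f).left (lift f (𝟙 T)).left) := by
  haveI : Mono (lift f (𝟙 T)).left :=
    SplitMono.mono ⟨(snd X T).left, by rw [← Over.comp_left, lift_snd, Over.id_left]⟩
  infer_instance

/-- Translation by a point of `G` on `G ⊗ T`. -/
def transl (g : T ⟶ G) : G ⊗ T ⟶ G ⊗ T := lift ((snd G T ≫ g) * fst G T) (snd G T)

theorem transl_comp (g g' : T ⟶ G) : transl g ≫ transl g' = transl (g' * g) := by
  refine CartesianMonoidalCategory.hom_ext _ _ ?_ ?_ <;> simp [transl, MonObj.comp_mul, mul_assoc]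

theorem transl_one : transl (1 : T ⟶ G) = 𝟙 (G ⊗ T) := by
  refine CartesianMonoidalCategory.hom_ext _ _ ?_ ?_ <;> simp [transl, MonObj.comp_one]

/-- Translations by fixing points preserve the stabiliser. -/
theorem exists_transl_lift {f : T ⟶ X} (g : GITAffLib.FixPts a f) :
    ∃ τ : GLinSh.stab a f ⟶ GLinSh.stab a f,
      τ ≫ pullback.fst _ _ = pullback.fst _ _ ≫ (transl g.1).left ∧
        τ ≫ GLinSh.stabTo a f = GLinSh.stabTo a f := by
  let σ : X ⊗ T ⟶ X ⊗ T := lift (lift (snd X T ≫ g.1) (fst X T) ≫ a.act) (snd X T)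
  have h1 : transl g.1 ≫ GIT.psi a f = GIT.psi a f ≫ σ := by
    refine CartesianMonoidalCategory.hom_ext _ _ ?_ ?_
    · simp only [GIT.psi, σ, transl, Category.assoc, lift_fst, lift_whiskerLeft_assoc, comp_lift_assoc,
        reassoc_of% (lift_snd ((G ◁ f) ≫ a.act) (snd G T))]
      rw [GITAffLib.lift_mul_act]
      congr 2
    · simp [GIT.psi, σ, transl]
  have h2 : lift f (𝟙 T) ≫ σ = lift f (𝟙 T) := by
    refine CartesianMonoidalCategory.hom_ext _ _ ?_ ?_
    · simp [σ, comp_lift_assoc, g.2]
    · simp [σ]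
  refine ⟨pullback.lift (pullback.fst _ _ ≫ (transl g.1).left) (GLinSh.stabTo a f) ?_, pullback.lift_fst _ _ _,
    pullback.lift_snd _ _ _⟩
  rw [Category.assoc, ← Over.comp_left, h1, Over.comp_left, pullback.condition_assoc, ← Over.comp_left, h2]
  rfl

end General

variable {k : Type u} [Field k] {G X : Over (Spec (CommRingCat.of k))} [GrpObj G] (a : AlgGrp.Action G X)

theorem locallyOfFiniteType_stabTo [LocallyOfFiniteType G.hom] [QuasiCompact G.hom] [QuasiSeparated X.hom]
    {T : Over (Spec (CommRingCat.of k))} (f : T ⟶ X) :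
    LocallyOfFiniteType (GLinSh.stabTo a f) ∧ QuasiCompact (GLinSh.stabTo a f) := by
  haveI h1 : LocallyOfFiniteType (snd G T).left := by
    rw [Over.snd_left]; exact MorphismProperty.pullback_snd _ _ inferInstance
  haveI h2 : QuasiCompact (snd G T).left := by
    rw [Over.snd_left]; exact MorphismProperty.pullback_snd _ _ inferInstance
  haveI : QuasiSeparated (snd X T).left := by
    rw [Over.snd_left]; exact MorphismProperty.pullback_snd _ _ inferInstance
  have hs : (GIT.psi a f).left ≫ (snd X T).left = (snd G T).left := by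
    rw [← Over.comp_left, psi_snd]
  haveI : LocallyOfFiniteType ((GIT.psi a f).left ≫ (snd X T).left) := by rw [hs]; exact h1
  haveI : QuasiCompact ((GIT.psi a f).left ≫ (snd X T).left) := by rw [hs]; exact h2
  haveI : LocallyOfFiniteType (GIT.psi a f).left := locallyOfFiniteType_of_comp _ (snd X T).left
  haveI : QuasiCompact (GIT.psi a f).left := QuasiCompact.of_comp _ (snd X T).left
  exact ⟨MorphismProperty.pullback_snd _ _ inferInstance, MorphismProperty.pullback_snd _ _ inferInstance⟩

end GLinStab
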