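import Groth.Agent.OrbitLib.Main
import Groth.Agent.FibDimLib.FieldExt
import Groth.Agent.FibDimLib.FibreJumps

/-!
# Dimension of an orbit and of the stabiliser (small import closure)
-/

set_option autoImplicit false
set_option backward.isDefEq.respectTransparency false
set_option linter.style.haveILetI false
set_option maxHeartbeats 800000

universe u

open CategoryTheory CategoryTheory.Limits MonoidalCategory CartesianMonoidalCategory AlgebraicGeometry
open TopologicalSpace Topology
open scoped MonObj
open OrbitLib (orbit isLocallyClosed_orbit orbit_nonempty exists_dim_eq_nat)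

noncomputable section

namespace GLinStab

section Cosets

variable {S : Scheme.{u}}

variable {G H X : Over S} [GrpObj G] (i : H ⟶ G) (o : G ⟶ X)

theorem mulHom_eq : (G ◁ i) ≫ μ[G] = fst G H * (snd G H ≫ i) := by
  rw [Hom.mul_def]
  congr 1

/-- The square of a map whose fibres are cosets. -/
theorem isPullback_cosets [Mono i]
    (hiff : ∀ (T : Over S) (g g' : T ⟶ G), g ≫ o = g' ≫ o ↔ ∃ h : T ⟶ H, g * (h ≫ i) = g') :
    IsPullback (fst G H) ((G ◁ i) ≫ μ[G]) o o := by
  refine ⟨⟨(hiff _ _ _).mpr ⟨snd G H, (mulHom_eq i).symm⟩⟩, ⟨PullbackCone.IsLimit.mk _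
    (fun c => lift c.fst ((hiff _ _ _).mp c.condition).choose) (fun c => lift_fst _ _) (fun c => ?_)
    (fun c m h1 h2 => ?_)⟩⟩
  · rw [mulHom_eq, MonObj.comp_mul, lift_fst, lift_snd_assoc]
    exact ((hiff _ _ _).mp c.condition).choose_spec
  · refine CartesianMonoidalCategory.hom_ext _ _ (by rw [lift_fst]; exact h1) ?_
    rw [lift_snd, ← cancel_mono i]
    rw [mulHom_eq, MonObj.comp_mul, h1, ← ((hiff _ _ _).mp c.condition).choose_spec, mul_right_inj,
      ← Category.assoc] at h2
    exact h2

theorem act_one (a : AlgGrp.Action G X) {T : Over S} (x : T ⟶ X) :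
    lift (1 : T ⟶ G) x ≫ a.act = x := by
  have e : lift (1 : T ⟶ G) x = lift (toUnit T) x ≫ (η[G] ▷ X) := by
    refine CartesianMonoidalCategory.hom_ext _ _ ?_ (by simp)
    simp [Hom.one_def]
  rw [e, Category.assoc, a.one_act, leftUnitor_hom, lift_snd]

theorem act_mul (a : AlgGrp.Action G X) {T : Over S} (g g' : T ⟶ G) (x : T ⟶ X) :
    lift (g * g') x ≫ a.act = lift g (lift g' x ≫ a.act) ≫ a.act := by
  have e : lift (g * g') x = lift (lift g g') x ≫ (μ[G] ▷ X) := by
    refine CartesianMonoidalCategory.hom_ext _ _ ?_ (by simp)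
    simp [Hom.mul_def]
  rw [e, Category.assoc, a.mul_act, lift_lift_associator_hom_assoc, lift_whiskerLeft_assoc]

theorem comp_orbitMap (a : AlgGrp.Action G X) (ξ : 𝟙_ (Over S) ⟶ X) {T : Over S} (g : T ⟶ G) :
    g ≫ a.orbitMap ξ = lift g (toUnit T ≫ ξ) ≫ a.act := by
  rw [AlgGrp.Action.orbitMap, ← Category.assoc, comp_lift, Category.comp_id, ← Category.assoc g,
    toUnit_unique (g ≫ toUnit G) (toUnit T)]

/-- Fibres of the orbit map are cosets of the stabilizer. -/
theorem orbit_iff (a : AlgGrp.Action G X) (ξ : 𝟙_ (Over S) ⟶ X) (hH : IsPullback i (toUnit H) (a.orbitMap ξ) ξ)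
    (T : Over S) (g g' : T ⟶ G) :
    g ≫ a.orbitMap ξ = g' ≫ a.orbitMap ξ ↔ ∃ h : T ⟶ H, g * (h ≫ i) = g' := by
  constructor
  · intro e
    have e' : (g⁻¹ * g') ≫ a.orbitMap ξ = toUnit T ≫ ξ := by
      rw [comp_orbitMap, act_mul, ← comp_orbitMap, ← e, comp_orbitMap, ← act_mul, inv_mul_cancel, act_one]
    exact ⟨hH.lift _ _ e', by rw [hH.lift_fst, mul_inv_cancel_left]⟩
  · rintro ⟨h, rfl⟩
    have e : (h ≫ i) ≫ a.orbitMap ξ = toUnit T ≫ ξ := by
      rw [Category.assoc, hH.w, ← Category.assoc, toUnit_unique (h ≫ toUnit H) (toUnit T)]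
    rw [comp_orbitMap a ξ (g * (h ≫ i)), act_mul, ← comp_orbitMap a ξ (h ≫ i), e, ← comp_orbitMap]

theorem mono_of_stabilizer (a : AlgGrp.Action G X) (ξ : 𝟙_ (Over S) ⟶ X)
    (hH : IsPullback i (toUnit H) (a.orbitMap ξ) ξ) : Mono i :=
  ⟨fun b c e => hH.hom_ext e (toUnit_unique _ _)⟩

end Cosets

variable {k : Type u} [Field k] {G X : Over (Spec (CommRingCat.of k))} [GrpObj G] (a : AlgGrp.Action G X)
  [LocallyOfFiniteType G.hom] [LocallyOfFiniteType X.hom] (x : 𝟙_ (Over (Spec (CommRingCat.of k))) ⟶ X)

theorem lft_orbitMap : LocallyOfFiniteType (a.orbitMap x).left := by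
  haveI : LocallyOfFiniteType ((a.orbitMap x).left ≫ X.hom) := by rw [Over.w]; infer_instance
  exact locallyOfFiniteType_of_comp _ X.hom

/-- All nonempty fibres of the orbit map have the dimension of the stabiliser. -/
theorem dim_fiber (g : G.left) :
    topologicalKrullDim ((a.orbitMap x).left.fiber ((a.orbitMap x).left g)) =
      topologicalKrullDim ↥(Limits.pullback (a.orbitMap x).left x.left) := by
  haveI := lft_orbitMap a x
  let o := a.orbitMap x
  let H : Over (Spec (CommRingCat.of k)) := Limits.pullback o x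
  let i : H ⟶ G := pullback.fst o x
  have hH : IsPullback i (toUnit H) o x := by
    have h := IsPullback.of_hasPullback o x
    rwa [toUnit_unique (pullback.snd o x) (toUnit H)] at h
  haveI : Mono i := mono_of_stabilizer i a x hH
  have hsq := isPullback_cosets i o (orbit_iff i a x hH)
  have sqL : IsPullback (fst G H).left ((G ◁ i) ≫ μ[G]).left o.left o.left := hsq.map (Over.forget _)
  have e1 := FibDimLib.topologicalKrullDim_fiber_baseChange sqL.flip g
  have hp : IsPullback (snd G H).left (fst G H).left H.hom G.hom := by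
    rw [Over.fst_left, Over.snd_left]
    exact (IsPullback.of_hasPullback G.hom H.hom).flip
  haveI : LocallyOfFiniteType i.left :=
    MorphismProperty.of_isPullback (hH.map (Over.forget _)).flip
      (by
        haveI : LocallyOfFiniteType (x.left ≫ X.hom) := by rw [Over.w x]; exact inferInstanceAs (LocallyOfFiniteType (𝟙 (Spec (CommRingCat.of k))))
        exact locallyOfFiniteType_of_comp x.left X.hom)
  haveI : LocallyOfFiniteType H.hom := by rw [← Over.w i]; infer_instance
  have e2 := FibDimLib.topologicalKrullDim_fiber_baseChange hp g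
  let w := (H.hom).fiberι (G.hom g)
  have hw : IsHomeomorph w := by
    haveI : Subsingleton ↥(Spec (CommRingCat.of k)) := inferInstanceAs (Subsingleton (PrimeSpectrum k))
    exact isHomeomorph_iff_isEmbedding_surjective.mpr ⟨w.isEmbedding, Set.range_eq_univ.mp
      ((H.hom.range_fiberι _).trans (Set.eq_univ_of_forall fun z => Subsingleton.elim _ _))⟩
  rw [← e1, e2, IsHomeomorph.topologicalKrullDim_eq _ hw]
  exact IsHomeomorph.topologicalKrullDim_eq _
    (Scheme.homeoOfIso (hH.map (Over.forget _)).isoPullback).isHomeomorph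

theorem dim_eq_add [QuasiCompact G.hom] [QuasiCompact X.hom] :
    topologicalKrullDim G.left =
      topologicalKrullDim ↥(orbit a x) + topologicalKrullDim ↥(Limits.pullback (a.orbitMap x).left x.left) := by
  haveI := lft_orbitMap a x
  haveI : CompactSpace X.left := QuasiCompact.compactSpace_of_compactSpace X.hom
  haveI : CompactSpace G.left := QuasiCompact.compactSpace_of_compactSpace G.hom
  haveI : IsLocallyNoetherian X.left := LocallyOfFiniteType.isLocallyNoetherian X.hom
  haveI : IsNoetherian X.left := {}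
  obtain ⟨O, Z, hO, hZ, hC⟩ := isLocallyClosed_orbit a x
  let W : X.left.Opens := ⟨O, hO⟩
  have hsub : ∀ c ∈ orbit a x, c ∈ O := fun c hc => (hC ▸ hc : c ∈ O ∩ Z).1
  have hle : ∀ c ∈ orbit a x, topologicalKrullDim (closure ({c} : Set X.left)) ≤ topologicalKrullDim ↥(orbit a x) := by
    intro c hc
    rw [← FibDimLib.topologicalKrullDim_closure_open X W ⟨c, hsub c hc⟩]
    have hmem : ∀ w : ↥(closure ({⟨c, hsub c hc⟩} : Set W)), (Subtype.val w).1 ∈ orbit a x := fun w =>
      hC.ge ⟨(Subtype.val w).2, closure_minimal (Set.singleton_subset_iff.mpr (hC ▸ hc : c ∈ O ∩ Z).2) hZ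
        (((specializes_iff_mem_closure.mpr w.2).map continuous_subtype_val).mem_closure)⟩
    exact ((IsEmbedding.subtypeVal.comp IsEmbedding.subtypeVal).codRestrict (orbit a x) hmem).isInducing.topologicalKrullDim_le
  have hfib : ∀ g : G.left, UOpenLib.fibreClosureDim (a.orbitMap x).left g ≤
      topologicalKrullDim ↥(Limits.pullback (a.orbitMap x).left x.left) := fun g =>
    (topologicalKrullDim_subspace_le _ _).trans_eq (dim_fiber a x g)
  apply le_antisymm
  · refine FibDimLib.topologicalKrullDim_le_of_points fun g => ?_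
    rw [FibDimLib.topologicalKrullDim_closure_eq_add X.hom (a.orbitMap x).left g]
    exact add_le_add (hle _ ⟨g, rfl⟩) (hfib g)
  · haveI : Nonempty ↥(orbit a x) := (orbit_nonempty a x).to_subtype
    haveI : QuasiSober ↥(orbit a x) := by
      have h1 : IsClosed (Subtype.val ⁻¹' orbit a x : Set W) := by
        rw [hC, Set.preimage_inter]
        rw [show (Subtype.val ⁻¹' O : Set W) = Set.univ from Set.eq_univ_of_forall fun w => w.2]
        exact isClosed_univ.inter (hZ.preimage continuous_subtype_val)
      haveI : QuasiSober ↥W := inferInstanceAs (QuasiSober (W : Scheme.{u}))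
      haveI := h1.isClosedEmbedding_subtypeVal.quasiSober
      let H : ↥(orbit a x) ≃ₜ ↥(Subtype.val ⁻¹' orbit a x : Set W) :=
        { toFun := fun c => ⟨⟨c.1, hsub c.1 c.2⟩, c.2⟩
          invFun := fun c => ⟨c.1.1, c.2⟩
          left_inv := fun _ => rfl
          right_inv := fun _ => rfl
          continuous_toFun := (continuous_subtype_val.subtype_mk _).subtype_mk _
          continuous_invFun := (continuous_subtype_val.comp continuous_subtype_val).subtype_mk _ }
      exact H.isClosedEmbedding.quasiSober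
    obtain ⟨z, -, hz⟩ := FibDimLib.exists_generic_closure_dim (A := ↥(orbit a x))
    obtain ⟨g₀, hg₀⟩ := z.2
    have hle' : topologicalKrullDim ↥(orbit a x) ≤ topologicalKrullDim (closure ({(z : X.left)} : Set X.left)) := by
      rw [hz]
      have hm : ∀ w : ↥(closure ({z} : Set ↥(orbit a x))), (Subtype.val w).1 ∈ closure ({(z : X.left)} : Set X.left) :=
        fun w => ((specializes_iff_mem_closure.mpr w.2).map continuous_subtype_val).mem_closure
      exact ((IsEmbedding.subtypeVal.comp IsEmbedding.subtypeVal).codRestrict _ hm).isInducing.topologicalKrullDim_le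
    have hfd := dim_fiber a x g₀
    haveI : Nonempty ↥((a.orbitMap x).left.fiber ((a.orbitMap x).left g₀)) := ⟨(a.orbitMap x).left.asFiber g₀⟩
    haveI : CompactSpace ↥((a.orbitMap x).left.fiber ((a.orbitMap x).left g₀)) := by
      haveI : QuasiCompact (a.orbitMap x).left := quasiCompact_of_compactSpace _
      infer_instance
    haveI : LocallyOfFiniteType (Over.mk ((a.orbitMap x).left.fiberToSpecResidueField ((a.orbitMap x).left g₀))).hom :=
      UOpenLib.lft_fiberToSpec _ _
    haveI : CompactSpace ↥(Over.mk ((a.orbitMap x).left.fiberToSpecResidueField ((a.orbitMap x).left g₀))).left :=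
      ‹CompactSpace ↥((a.orbitMap x).left.fiber ((a.orbitMap x).left g₀))›
    haveI : Nonempty ↥(Over.mk ((a.orbitMap x).left.fiberToSpecResidueField ((a.orbitMap x).left g₀))).left :=
      ‹Nonempty ↥((a.orbitMap x).left.fiber ((a.orbitMap x).left g₀))›
    obtain ⟨r, hr⟩ := exists_dim_eq_nat
      (Over.mk ((a.orbitMap x).left.fiberToSpecResidueField ((a.orbitMap x).left g₀)))
    obtain ⟨g, hg, hgd⟩ := FibDimLib.exists_fibreDimAt_ge (a.orbitMap x).left ((a.orbitMap x).left g₀) hr.ge
    rw [← hfd, show topologicalKrullDim ↥((a.orbitMap x).left.fiber ((a.orbitMap x).left g₀)) = r from hr]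
    refine le_trans ?_ (topologicalKrullDim_subspace_le G.left (closure ({g} : Set G.left)))
    rw [FibDimLib.topologicalKrullDim_closure_eq_add X.hom (a.orbitMap x).left g, hg, hg₀]
    exact add_le_add hle' hgd

end GLinStab
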