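import Groth.Agent.GLinStabLib.Basic
import Groth.Agent.GLinStabLib.OrbitDim
import Groth.Agent.NeutralSchLib.ActionBC
import Groth.Agent.FibDimLib.SchemeInv
import Groth.Agent.FibDimLib.Semicont

/-!
# Dimension of stabilisers
-/

set_option autoImplicit false
set_option backward.isDefEq.respectTransparency false
set_option synthInstance.maxHeartbeats 400000
set_option maxHeartbeats 1000000
set_option linter.style.haveILetI false
set_option linter.unusedSectionVars false

universe u

noncomputable section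

open CategoryTheory CategoryTheory.Limits MonoidalCategory CartesianMonoidalCategory AlgebraicGeometry Topology
open scoped MonObj

namespace GLinStab

open GLinShLib (IsInvOpen)

theorem dim_fiber_eq {P B : Scheme.{u}} [Subsingleton B] (q : P ⟶ B) (t : B) :
    topologicalKrullDim (q.fiber t) = topologicalKrullDim P :=
  IsHomeomorph.topologicalKrullDim_eq _ (((q.fiberHomeo t).trans
    (Homeomorph.setCongr (Set.eq_univ_of_forall fun _ => Subsingleton.elim _ _))).trans
      (Homeomorph.Set.univ _)).isHomeomorph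

/-- A scheme over a field whose closed points are translates of one point. -/
theorem fibreDimAt_eq_dim {P B : Scheme.{u}} [Subsingleton B] (q : P ⟶ B) [LocallyOfFiniteType q] [JacobsonSpace P]
    (z₀ : P) (h : ∀ z ∈ closedPoints P, ∃ τ : P ⟶ P, IsIso τ ∧ τ ≫ q = q ∧ τ z₀ = z) :
    FlatMor.fibreDimAt q z₀ = topologicalKrullDim P := by
  rw [← dim_fiber_eq q (q z₀)]
  refine le_antisymm (FibDimLib.fibreDimAt_le_fiber q z₀) ?_
  refine (FibDimLib.topologicalKrullDim_fiber_le_iff q _ _).2 fun z _ => ?_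
  obtain ⟨c, hzc, hc⟩ := nonempty_inter_closedPoints (Z := closure ({z} : Set P)) ⟨z, subset_closure rfl⟩
    isClosed_closure.isLocallyClosed
  refine (FibDimLib.fibreDimAt_le_of_specializes q (specializes_iff_mem_closure.2 hzc)).trans (le_of_eq ?_)
  obtain ⟨τ, hτ, hτq, rfl⟩ := h c hc
  exact (FibDimLib.fibreDimAt_baseChange (g := 𝟙 B) (IsPullback.of_horiz_isIso ⟨by simp [hτq]⟩) z₀).symm

variable {k : Type u} [Field k] {G X : Over (Spec (CommRingCat.of k))} [GrpObj G] (a : AlgGrp.Action G X)

theorem quasiSeparated_of_lft [LocallyOfFiniteType X.hom] : QuasiSeparated X.hom := by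
  haveI : IsLocallyNoetherian X.left := LocallyOfFiniteType.isLocallyNoetherian X.hom
  infer_instance

/-- Closed points of a geometric stabiliser are translates of the identity. -/
theorem exists_aut_stab {Ω : Type u} [Field Ω] [IsAlgClosed Ω] {T : Over (Spec (CommRingCat.of k))}
    (e : T.left ≅ Spec (CommRingCat.of Ω)) (f : T ⟶ X) (t : T.left) [LocallyOfFiniteType (GLinSh.stabTo a f)]
    (z : GLinSh.stab a f) (hz : z ∈ closedPoints (GLinSh.stab a f)) :
    ∃ τ : GLinSh.stab a f ⟶ GLinSh.stab a f, IsIso τ ∧ τ ≫ GLinSh.stabTo a f = GLinSh.stabTo a f ∧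
      τ (unitSec a f t) = z := by
  haveI : Subsingleton T.left := (Scheme.homeoOfIso e).injective.subsingleton
  let qT := GLinSh.stabTo a f
  let gT := qT ≫ e.hom
  haveI : LocallyOfFiniteType gT := inferInstance
  let p' := (pointEquivClosedPoint gT).symm ⟨z, hz⟩
  let p : T.left ⟶ GLinSh.stab a f := e.hom ≫ p'.1
  have hp : p ≫ qT = 𝟙 _ := by
    rw [← cancel_mono e.hom, Category.assoc, Category.assoc, Category.id_comp]
    exact (congrArg (e.hom ≫ ·) p'.2).trans (Category.comp_id _)
  have hpz : p t = z := by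
    have h4 : (pointEquivClosedPoint gT p').1 = z := by rw [Equiv.apply_symm_apply]
    rw [← h4]
    show p'.1 (e.hom t) = _
    have : e.hom t = IsLocalRing.closedPoint Ω := Subsingleton.elim _ _
    rw [this]
    rfl
  let m : T ⟶ G ⊗ T := Over.homMk (p ≫ pullback.fst _ _) (by
    rw [← Over.w (GIT.psi a f), Category.assoc, pullback.condition_assoc,
      show (lift f (𝟙 T)).left ≫ (X ⊗ T).hom = T.hom from Over.w _]
    exact (Category.assoc _ _ _).symm.trans ((congrArg (· ≫ T.hom) hp).trans (Category.id_comp _)))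
  have hm : m ≫ GIT.psi a f = lift f (𝟙 T) := Over.OverMorphism.ext (by
    show (p ≫ pullback.fst _ _) ≫ _ = _
    rw [Category.assoc, pullback.condition]
    exact (Category.assoc _ _ _).symm.trans ((congrArg (· ≫ _) hp).trans (Category.id_comp _)))
  have hm2 : m ≫ snd G T = 𝟙 T := by simpa [GIT.psi] using congrArg (· ≫ snd X T) hm
  have hml : m = lift (m ≫ fst G T) (𝟙 T) := by
    refine CartesianMonoidalCategory.hom_ext _ _ ?_ ?_ <;> simp [hm2]
  let g : GITAffLib.FixPts a f := ⟨m ≫ fst G T, by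
    rw [hml, GITAffLib.lift_psi] at hm
    simpa using congrArg (· ≫ fst X T) hm⟩
  obtain ⟨τ, hτ1, hτ2⟩ := exists_transl_lift a g
  let g' : GITAffLib.FixPts a f := ⟨g.1⁻¹, by
    have h6 := GITAffLib.lift_mul_act a g.1⁻¹ g.1 f
    rw [inv_mul_cancel, GITAffLib.lift_one_act, g.2] at h6
    exact h6.symm⟩
  obtain ⟨τ', hτ1', hτ2'⟩ := exists_transl_lift a g'
  haveI := mono_fst a f
  have hinv : τ ≫ τ' = 𝟙 _ ∧ τ' ≫ τ = 𝟙 _ := by
    constructor <;> rw [← cancel_mono (pullback.fst (GIT.psi a f).left (lift f (𝟙 T)).left)] <;>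
      simp only [Category.assoc, hτ1, hτ1', reassoc_of% hτ1, reassoc_of% hτ1', ← Over.comp_left, transl_comp] <;>
      simp [g', transl_one]
  haveI : IsIso τ := ⟨τ', hinv.1, hinv.2⟩
  refine ⟨τ, inferInstance, hτ2, ?_⟩
  have h5 : unitSec a f ≫ τ = p := by
    rw [← cancel_mono (pullback.fst (GIT.psi a f).left (lift f (𝟙 T)).left), Category.assoc, hτ1,
      ← Category.assoc, unitSec, pullback.lift_fst, ← Over.comp_left]
    show _ = m.left
    congr 1
    rw [hml]
    refine CartesianMonoidalCategory.hom_ext _ _ ?_ ?_ <;> simp [transl, g, MonObj.comp_mul]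
  rw [← Scheme.Hom.comp_apply, h5, hpz]

theorem unitSec_comp {S : Scheme.{u}} {G X T : Over S} [GrpObj G] (a : AlgGrp.Action G X) (f : T ⟶ X)
    (r : GLinSh.stab a f ⟶ GLinSh.stab a (𝟙 X)) (hr : r ≫ GLinSh.stabTo a (𝟙 X) = GLinSh.stabTo a f ≫ f.left)
    (hr' : r ≫ pullback.fst _ _ = pullback.fst _ _ ≫ (G ◁ f).left) :
    unitSec a f ≫ r = f.left ≫ unitSec a (𝟙 X) := by
  apply pullback.hom_ext
  · rw [Category.assoc, Category.assoc, hr', unitSec, unitSec, pullback.lift_fst, pullback.lift_fst_assoc,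
      ← Over.comp_left, ← Over.comp_left]
    congr 1
    refine CartesianMonoidalCategory.hom_ext _ _ ?_ ?_ <;> simp [MonObj.comp_one]
  · rw [Category.assoc, Category.assoc]
    show unitSec a f ≫ r ≫ GLinSh.stabTo a (𝟙 X) = f.left ≫ unitSec a (𝟙 X) ≫ GLinSh.stabTo a (𝟙 X)
    rw [hr, unitSec_stabTo, reassoc_of% unitSec_stabTo a f, Category.comp_id]

/-- The dimension of the stabiliser at a point. -/
def stabDim (x : X.left) : WithBot ℕ∞ := topologicalKrullDim ((GLinSh.stabTo a (𝟙 X)).fiber x)

variable [LocallyOfFiniteType G.hom] [QuasiCompact G.hom] [LocallyOfFiniteType X.hom]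

theorem lft_stabTo {T : Over (Spec (CommRingCat.of k))} (f : T ⟶ X) :
    LocallyOfFiniteType (GLinSh.stabTo a f) :=
  haveI := quasiSeparated_of_lft (X := X)
  (locallyOfFiniteType_stabTo a f).1

theorem dim_stab {T : Over (Spec (CommRingCat.of k))} [Subsingleton T.left] (f : T ⟶ X) (t : T.left) :
    topologicalKrullDim (GLinSh.stab a f) = stabDim a (f.left t) := by
  haveI := lft_stabTo a (𝟙 X)
  obtain ⟨r, hr, -⟩ := isPullback_stab a f
  rw [stabDim, ← FibDimLib.topologicalKrullDim_fiber_baseChange hr t, dim_fiber_eq]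

theorem dim_stab_residue (x : X.left) :
    topologicalKrullDim (GLinSh.stab a (Over.homMk (X.left.fromSpecResidueField x) rfl :
      Over.mk (X.left.fromSpecResidueField x ≫ X.hom) ⟶ X)) = stabDim a x := by
  haveI : Subsingleton ↥(Over.mk (X.left.fromSpecResidueField x ≫ X.hom)).left :=
    inferInstanceAs (Subsingleton (PrimeSpectrum (X.left.residueField x)))
  let t : ↥(Over.mk (X.left.fromSpecResidueField x ≫ X.hom)).left :=
    IsLocalRing.closedPoint (X.left.residueField x)
  rw [dim_stab a _ t]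
  congr 1
  exact Scheme.fromSpecResidueField_apply x t

theorem stabDim_eq_fibreDimAt (x : X.left) :
    stabDim a x = FlatMor.fibreDimAt (GLinSh.stabTo a (𝟙 X)) (unitSec a (𝟙 X) x) := by
  haveI := lft_stabTo a (𝟙 X)
  obtain ⟨K, _, _, p, hp⟩ := Groth.Agent.GrpField.exists_geomPoint x
  let T : Over (Spec (CommRingCat.of k)) := Over.mk (p ≫ X.hom)
  let f : T ⟶ X := Over.homMk p rfl
  haveI : Subsingleton T.left := inferInstanceAs (Subsingleton (PrimeSpectrum K))
  let t : T.left := IsLocalRing.closedPoint K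
  haveI := lft_stabTo a f
  obtain ⟨r, hr, hr'⟩ := isPullback_stab a f
  let q' : GLinSh.stab a f ⟶ Spec (CommRingCat.of K) := GLinSh.stabTo a f
  haveI : LocallyOfFiniteType q' := ‹LocallyOfFiniteType (GLinSh.stabTo a f)›
  haveI : JacobsonSpace (GLinSh.stab a f) := LocallyOfFiniteType.jacobsonSpace q'
  have hft : f.left t = x := hp t
  have h := fibreDimAt_eq_dim (GLinSh.stabTo a f) (unitSec a f t) fun z hz => exists_aut_stab a (Iso.refl T.left) f t z hz
  rw [FibDimLib.fibreDimAt_baseChange hr, dim_stab a f t, hft] at h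
  rw [← h]
  congr 1
  show (unitSec a f ≫ r) t = _
  rw [unitSec_comp a f r hr.w hr', Scheme.Hom.comp_apply, hft]

theorem isOpen_stabDim_le (c : WithBot ℕ∞) : IsOpen {x : X.left | stabDim a x ≤ c} := by
  haveI := lft_stabTo a (𝟙 X)
  simp only [stabDim_eq_fibreDimAt]
  exact (FibDimLib.isOpen_fibreDimAt_le _ c).preimage (unitSec a (𝟙 X)).continuous

theorem exists_stabDim_eq_nat (x : X.left) : ∃ d : ℕ, stabDim a x = d := by
  haveI := lft_stabTo a (𝟙 X)
  rw [stabDim_eq_fibreDimAt]
  exact UOpenLib.exists_fibreDimAt_eq_nat _ _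

section Geom

variable {Ω : Type u} [Field Ω] (t : Spec (CommRingCat.of Ω) ⟶ Spec (CommRingCat.of k))

/-- The rational point of the base change given by a point. -/
def ptBC (f : Over.mk t ⟶ X) : 𝟙_ (Over (Spec (CommRingCat.of Ω))) ⟶ Red.bc t X :=
  Over.homMk (pullback.lift f.left (𝟙 _) (by rw [Category.id_comp]; exact Over.w f)) (pullback.lift_snd _ _ _)

theorem psi_eq_orbitMap (f : Over.mk t ⟶ X) :
    (GIT.psi a f).left = ((Groth.Agent.NeutralSch.actBC t a).orbitMap (ptBC t f)).left := by
  let F := Over.pullback t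
  let x := ptBC t f
  let a' := Groth.Agent.NeutralSch.actBC t a
  let m : Red.bc t G ⟶ F.obj (G ⊗ X) :=
    lift (𝟙 _) (toUnit _ ≫ x) ≫ Functor.LaxMonoidal.μ F G X
  have h1 : m ≫ F.map (fst G X) = 𝟙 _ := by simp [m, F, Red.bc]
  have h2 : m ≫ F.map (snd G X) = toUnit _ ≫ x := by simp [m, F, Red.bc]
  have ho : a'.orbitMap x = m ≫ F.map a.act := by
    simp only [AlgGrp.Action.orbitMap, a', Groth.Agent.NeutralSch.actBC, m, Category.assoc]
    rfl
  have hm : m.left ≫ pullback.fst (G ⊗ X).hom t = (G ◁ f).left := by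
    have e1 := congrArg (fun n => n.left ≫ pullback.fst G.hom t) h1
    have e2 := congrArg (fun n => n.left ≫ pullback.fst X.hom t) h2
    simp only [F, Over.comp_left, Over.pullback_map_left, Category.assoc, pullback.lift_fst, Over.id_left] at e1 e2
    apply pullback.hom_ext
    · simpa using e1
    · have e3 : x.left ≫ pullback.fst X.hom t = f.left := pullback.lift_fst _ _ _
      simpa [Over.whiskerLeft_left_snd, e3] using e2
  apply pullback.hom_ext
  · rw [show (Groth.Agent.NeutralSch.actBC t a).orbitMap (ptBC t f) = m ≫ F.map a.act from ho, Over.comp_left,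
      Category.assoc]
    show (GIT.psi a f).left ≫ (fst X (Over.mk t)).left =
      m.left ≫ (F.map a.act).left ≫ pullback.fst X.hom t
    rw [← Over.comp_left, GIT.psi, lift_fst, Over.comp_left]
    simp only [F, Over.pullback_map_left, pullback.lift_fst]
    rw [← Category.assoc, hm]
  · show (GIT.psi a f).left ≫ (snd X (Over.mk t)).left = (a'.orbitMap x).left ≫ (Red.bc t X).hom
    rw [← Over.comp_left, psi_snd, Over.w]
    rfl

variable [QuasiCompact X.hom]

theorem dim_add (f : Over.mk t ⟶ X) (z : ↥(Over.mk t).left) :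
    topologicalKrullDim G.left =
      topologicalKrullDim (Set.range (GIT.psi a f).left) + stabDim a (f.left z) := by
  haveI : Subsingleton ↥(Over.mk t).left := inferInstanceAs (Subsingleton (PrimeSpectrum Ω))
  haveI : LocallyOfFiniteType (Red.bc t G).hom := MorphismProperty.pullback_snd _ _ inferInstance
  haveI : QuasiCompact (Red.bc t G).hom := MorphismProperty.pullback_snd _ _ inferInstance
  haveI : LocallyOfFiniteType (Red.bc t X).hom := MorphismProperty.pullback_snd _ _ inferInstance
  haveI : QuasiCompact (Red.bc t X).hom := MorphismProperty.pullback_snd _ _ inferInstance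
  have h := dim_eq_add (Groth.Agent.NeutralSch.actBC t a) (ptBC t f)
  have hG : topologicalKrullDim ↥(Red.bc t G).left = topologicalKrullDim G.left := by
    letI := (Spec.preimage t).hom.toAlgebra
    have e : Spec.map (CommRingCat.ofHom (algebraMap k Ω)) = t := Spec.map_preimage t
    show topologicalKrullDim ↥(pullback G.hom t) = _
    rw [← e]
    exact FibDimLib.topologicalKrullDim_pullback_field k Ω G.hom
  have hl : (lift f (𝟙 (Over.mk t))).left = (ptBC t f).left := by
    apply pullback.hom_ext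
    · show (lift f (𝟙 _)).left ≫ (fst X (Over.mk t)).left = _
      rw [← Over.comp_left, lift_fst]
      exact (pullback.lift_fst _ _ _).symm
    · show (lift f (𝟙 _)).left ≫ (snd X (Over.mk t)).left = _
      rw [← Over.comp_left, lift_snd]
      exact (pullback.lift_snd _ _ _).symm
  rw [hG, OrbitLib.orbit, ← psi_eq_orbitMap] at h
  rw [h, ← dim_stab a f z]
  show _ = _ + topologicalKrullDim ↥(pullback (GIT.psi a f).left (lift f (𝟙 (Over.mk t))).left)
  rw [hl]
  rfl

theorem exists_dims (f : Over.mk t ⟶ X) (z : ↥(Over.mk t).left) :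
    ∃ n m d : ℕ, topologicalKrullDim G.left = n ∧ topologicalKrullDim (Set.range (GIT.psi a f).left) = m ∧
      stabDim a (f.left z) = d ∧ n = m + d := by
  haveI : CompactSpace G.left := QuasiCompact.compactSpace_of_compactSpace G.hom
  haveI : Nonempty G.left := ⟨(η[G]).left (IsLocalRing.closedPoint k)⟩
  obtain ⟨n, hn⟩ := OrbitLib.exists_dim_eq_nat G
  obtain ⟨d, hd⟩ := exists_stabDim_eq_nat a (f.left z)
  have h := dim_add a t f z
  rw [hn, hd] at h
  generalize hv : topologicalKrullDim (Set.range (GIT.psi a f).left) = v at h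
  induction v using WithBot.recBotCoe with
  | bot => simp at h
  | coe v =>
    induction v using ENat.recTopCoe with
    | top =>
      have h' : (n : ℕ∞) = ⊤ + d := WithBot.coe_inj.1 (by exact_mod_cast h)
      simp at h'
    | coe m => exact ⟨n, m, d, hn, rfl, hd, by exact_mod_cast h⟩

theorem stabDim_eq_of_range_eq (f f' : Over.mk t ⟶ X) (z : ↥(Over.mk t).left)
    (h : Set.range (GIT.psi a f').left = Set.range (GIT.psi a f).left) :
    stabDim a (f'.left z) = stabDim a (f.left z) := by
  obtain ⟨n, m, d, hn, hm, hd, hsum⟩ := exists_dims a t f z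
  obtain ⟨n', m', d', hn', hm', hd', hsum'⟩ := exists_dims a t f' z
  rw [hd, hd']
  rw [h, hm] at hm'
  rw [hn] at hn'
  obtain rfl : n = n' := by exact_mod_cast hn'
  obtain rfl : m = m' := by exact_mod_cast hm'
  exact congrArg _ (by omega)

end Geom

theorem range_psi_translate {T : Over (Spec (CommRingCat.of k))} (g : T ⟶ G) (f : T ⟶ X) :
    Set.range (GIT.psi a (lift g f ≫ a.act)).left = Set.range (GIT.psi a f).left := by
  let m : (T ⟶ G) → (G ⊗ T ⟶ G ⊗ T) := fun g => lift (fst G T * (snd G T ≫ g)) (snd G T)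
  have hm : ∀ g g', m g ≫ m g' = m (g * g') := fun g g' => by
    refine CartesianMonoidalCategory.hom_ext _ _ ?_ ?_ <;> simp [m, MonObj.comp_mul, mul_assoc]
  have hm1 : m 1 = 𝟙 _ := by
    refine CartesianMonoidalCategory.hom_ext _ _ ?_ ?_ <;> simp [m, MonObj.comp_one]
  haveI : IsIso (m g) := ⟨m g⁻¹, by rw [hm, mul_inv_cancel, hm1], by rw [hm, inv_mul_cancel, hm1]⟩
  have e : m g ≫ GIT.psi a f = GIT.psi a (lift g f ≫ a.act) := by
    refine CartesianMonoidalCategory.hom_ext _ _ ?_ (by simp [GIT.psi, m])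
    simp only [GIT.psi, Category.assoc, lift_fst]
    have e1 : m g ≫ (G ◁ f) = lift (fst G T * (snd G T ≫ g)) (snd G T ≫ f) := by
      refine CartesianMonoidalCategory.hom_ext _ _ ?_ ?_ <;> simp [m]
    have e2 : (G ◁ (lift g f ≫ a.act) : G ⊗ T ⟶ G ⊗ X) = lift (fst G T) (lift (snd G T ≫ g) (snd G T ≫ f) ≫ a.act) := by
      refine CartesianMonoidalCategory.hom_ext _ _ ?_ ?_ <;> simp [comp_lift_assoc]
    rw [reassoc_of% e1, e2, GITAffLib.lift_mul_act]
  haveI : IsIso (m g).left := (Over.forget _).map_isIso (m g)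
  rw [← e, Over.comp_left, Scheme.Hom.comp_base, TopCat.coe_comp, Set.range_comp, (m g).left.surjective.range_eq,
    Set.image_univ]

theorem stabDim_act [QuasiCompact X.hom] (p : (G ⊗ X).left) :
    stabDim a (a.act.left p) = stabDim a ((snd G X).left p) := by
  obtain ⟨K, _, _, q, hq⟩ := Groth.Agent.GrpField.exists_geomPoint p
  let P : Over.mk (q ≫ (G ⊗ X).hom) ⟶ G ⊗ X := Over.homMk q rfl
  let z : ↥(Over.mk (q ≫ (G ⊗ X).hom)).left := IsLocalRing.closedPoint K
  have hact : P ≫ a.act = lift (P ≫ fst G X) (P ≫ snd G X) ≫ a.act := by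
    rw [← comp_lift, lift_fst_snd, Category.comp_id]
  have := stabDim_eq_of_range_eq a _ (P ≫ snd G X) (P ≫ a.act) z (hact ▸ range_psi_translate a _ _)
  have hz : P.left z = p := hq z
  rw [Over.comp_left, Over.comp_left, Scheme.Hom.comp_apply, Scheme.Hom.comp_apply, hz] at this
  exact this

/-- Orbits in an invariant open with stabilisers of constant dimension are closed in it. -/
theorem closedOrbitsOn_of_const [QuasiCompact X.hom] {O : X.left.Opens}
    {c : WithBot ℕ∞} (hc : ∀ y ∈ O, stabDim a y = c) : GLinSh.ClosedOrbitsOn a O := by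
  intro Ω _ _ T eT f₀ hf₀
  let t : Spec (CommRingCat.of Ω) ⟶ Spec (CommRingCat.of k) := eT.inv ≫ T.hom
  let T' : Over (Spec (CommRingCat.of k)) := Over.mk t
  let ε : T' ≅ T := Over.isoMk eT.symm rfl
  let f : Over.mk t ⟶ X := ε.hom ≫ f₀
  let z : ↥(Over.mk t).left := IsLocalRing.closedPoint Ω
  haveI : IsIso (X ◁ ε.hom).left := (Over.forget _).map_isIso (X ◁ ε.hom)
  haveI : IsIso (G ◁ ε.hom).left := (Over.forget _).map_isIso (G ◁ ε.hom)
  suffices h : IsClosed ((fun p : (fst X (Over.mk t)).left ⁻¹ᵁ O => (p : (X ⊗ Over.mk t).left)) ⁻¹'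
      Set.range (GIT.psi a f).left) by
    have e : GIT.psi a f ≫ (X ◁ ε.hom) = (G ◁ ε.hom) ≫ GIT.psi a f₀ := by
      refine CartesianMonoidalCategory.hom_ext _ _ ?_ ?_
      · simp [GIT.psi, f]
      · simp [GIT.psi]
        rfl
    have hr : Set.range (GIT.psi a f₀).left = (X ◁ ε.hom).left '' Set.range (GIT.psi a f).left := by
      have h2 := congrArg (fun n => Set.range n.left.base) e
      simp only [Over.comp_left, Scheme.Hom.comp_base, TopCat.coe_comp, Set.range_comp] at h2
      erw [(G ◁ ε.hom).left.surjective.range_eq, Set.image_univ] at h2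
      exact h2.symm
    haveI : IsIso (X ◁ ε.inv).left := (Over.forget _).map_isIso (X ◁ ε.inv)
    have hmem : ∀ p : (fst X T).left ⁻¹ᵁ O, (X ◁ ε.inv).left p.1 ∈ (fst X (Over.mk t)).left ⁻¹ᵁ O := fun p => by
      show ((X ◁ ε.inv) ≫ fst X _).left p.1 ∈ O
      rw [whiskerLeft_fst]
      exact p.2
    have h' := h.preimage (((X ◁ ε.inv).left.continuous.comp continuous_subtype_val).subtype_mk hmem)
    have e3 : (fun p : (fst X T).left ⁻¹ᵁ O => (p : (X ⊗ T).left)) ⁻¹' Set.range (GIT.psi a f₀).left =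
        (fun p : (fst X T).left ⁻¹ᵁ O => (X ◁ ε.inv).left p.1) ⁻¹' Set.range (GIT.psi a f).left := by
      rw [hr]
      ext p
      simp only [Set.mem_preimage]
      have e4 : ∀ w, (X ◁ ε.hom).left ((X ◁ ε.inv).left w) = w := fun w => by
        rw [← Scheme.Hom.comp_apply, ← Over.comp_left, ← MonoidalCategory.whiskerLeft_comp, ε.inv_hom_id,
          MonoidalCategory.whiskerLeft_id]
        rfl
      constructor
      · rintro ⟨w, hw, hw'⟩
        rwa [(X ◁ ε.hom).left.isOpenEmbedding.injective ((e4 p.1).trans hw'.symm)]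
      · exact fun hw => ⟨_, hw, e4 _⟩
    show IsClosed ((fun p : (fst X T).left ⁻¹ᵁ O => (p : (X ⊗ T).left)) ⁻¹' Set.range (GIT.psi a f₀).left)
    rw [e3]
    exact h'
  have hfz : f.left z ∈ O := by
    refine hf₀ ⟨ε.hom.left z, ?_⟩
    rfl
  haveI : LocallyOfFiniteType (Red.bc t G).hom := MorphismProperty.pullback_snd _ _ inferInstance
  haveI : QuasiCompact (Red.bc t G).hom := MorphismProperty.pullback_snd _ _ inferInstance
  haveI : LocallyOfFiniteType (Red.bc t X).hom := MorphismProperty.pullback_snd _ _ inferInstance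
  haveI : QuasiCompact (Red.bc t X).hom := MorphismProperty.pullback_snd _ _ inferInstance
  let a' := Groth.Agent.NeutralSch.actBC t a
  let x' := ptBC t f
  rw [psi_eq_orbitMap]
  set C := OrbitLib.orbit a' x'
  let O' : (Red.bc t X).left.Opens := (fst X (Over.mk t)).left ⁻¹ᵁ O
  have hsub : closure C ∩ O' ⊆ C := by
    intro w hw
    by_contra hwC
    have hlc : IsLocallyClosed ((closure C \ C) ∩ (O' : Set (Red.bc t X).left)) := by
      refine IsLocallyClosed.inter ?_ O'.isOpen.isLocallyClosed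
      obtain ⟨V, Z, hV, hZ, hC'⟩ := OrbitLib.isLocallyClosed_orbit a' x'
      have hC : C = V ∩ Z := hC'
      have : closure C \ C = closure C ∩ Vᶜ := by
        have hsub : closure C ⊆ Z := closure_minimal (hC ▸ Set.inter_subset_right) hZ
        ext c
        exact ⟨fun h => ⟨h.1, fun h' => h.2 (hC ▸ ⟨h', hsub h.1⟩)⟩,
          fun h => ⟨h.1, fun h' => h.2 (hC ▸ h' : c ∈ V ∩ Z).1⟩⟩
      rw [this]
      exact (isClosed_closure.inter hV.isClosed_compl).isLocallyClosed
    haveI : JacobsonSpace (Red.bc t X).left := LocallyOfFiniteType.jacobsonSpace (Red.bc t X).hom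
    obtain ⟨p, ⟨hpD, hpO⟩, hp⟩ :=
      nonempty_inter_closedPoints (Z := (closure C \ C) ∩ (O' : Set (Red.bc t X).left)) ⟨w, ⟨hw.1, hwC⟩, hw.2⟩ hlc
    let y : 𝟙_ (Over (Spec (CommRingCat.of Ω))) ⟶ Red.bc t X :=
      Over.homMk (pointOfClosedPoint (Red.bc t X).hom p hp) (pointOfClosedPoint_comp _ _ _)
    have hy : ∀ q, y.left q = p := fun q => pointOfClosedPoint_apply (Red.bc t X).hom p hp q
    let f' : Over.mk t ⟶ X := Over.homMk (y.left ≫ pullback.fst X.hom t) (by
      show (y.left ≫ pullback.fst X.hom t) ≫ X.hom = t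
      rw [Category.assoc, pullback.condition]
      exact (Category.assoc _ _ _).symm.trans ((congrArg (· ≫ t) (Over.w y)).trans (Category.id_comp _)))
    have hy' : ptBC t f' = y := Over.OverMorphism.ext (pullback.hom_ext (pullback.lift_fst _ _ _)
      ((pullback.lift_snd _ _ _).trans (Over.w y).symm))
    have hfz' : f'.left z ∈ O := by
      show (pullback.fst X.hom t) (y.left z) ∈ O
      rw [hy]
      exact hpO
    have hsubset := OrbitLib.orbit_subset a' y
      (((OrbitLib.invariant_orbit a' x').closure a').diff a' (OrbitLib.invariant_orbit a' x'))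
      (by rintro _ ⟨q, rfl⟩; rw [hy]; exact hpD)
    have hlt := (IsEmbedding.inclusion hsubset).isInducing.topologicalKrullDim_le.trans_lt
      (OrbitLib.dim_boundary_lt a' x')
    obtain ⟨n, m, d, hn, hm, hd, hsum⟩ := exists_dims a t f z
    obtain ⟨n', m', d', hn', hm', hd', hsum'⟩ := exists_dims a t f' z
    rw [psi_eq_orbitMap] at hm hm'
    rw [hy'] at hm'
    erw [hm, hm'] at hlt
    rw [hc _ hfz] at hd
    rw [hc _ hfz', hd] at hd'
    rw [hn] at hn'
    obtain rfl : n = n' := by exact_mod_cast hn'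
    obtain rfl : d = d' := by exact_mod_cast hd'
    have : m' < m := by exact_mod_cast hlt
    omega
  have e : ((fun p : O' => (p : (Red.bc t X).left)) ⁻¹' C) =
      (fun p : O' => (p : (Red.bc t X).left)) ⁻¹' closure C := by
    ext p
    exact ⟨fun h => subset_closure h, fun h => hsub ⟨h, p.2⟩⟩
  show IsClosed ((fun p : O' => (p : (Red.bc t X).left)) ⁻¹' C)
  rw [e]
  exact isClosed_closure.preimage continuous_subtype_val

end GLinStab
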