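import Groth.Agent.GLinStabLib.Basic
import Groth.Agent.GLinStabLib.OrbitDim
import Groth.Agent.NeutralSchLib.ActionBC
import Groth.Agent.FibDimLib.SchemeInv
import Groth.Agent.FibDimLib.Semicont

/-!
# Dimension of stabilisers over a general base
-/

set_option autoImplicit false
set_option backward.isDefEq.respectTransparency false
set_option synthInstance.maxHeartbeats 400000
set_option maxHeartbeats 1000000
set_option linter.style.haveILetI false
set_option linter.unusedSectionVars false

universe u

noncomputable section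

open CategoryTheory CategoryTheory.Limits MonoidalCategory CartesianMonoidalCategory AlgebraicGeometry Topology
open scoped MonObj

namespace GLinStabGen

open GLinStab (unitSec unitSec_stabTo isPullback_stab exists_transl_lift transl transl_comp transl_one mono_fst psi_snd)

theorem dim_fiber_eq {P B : Scheme.{u}} [Subsingleton B] (q : P ⟶ B) (t : B) :
    topologicalKrullDim (q.fiber t) = topologicalKrullDim P :=
  IsHomeomorph.topologicalKrullDim_eq _ (((q.fiberHomeo t).trans
    (Homeomorph.setCongr (Set.eq_univ_of_forall fun _ => Subsingleton.elim _ _))).trans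
      (Homeomorph.Set.univ _)).isHomeomorph

/-- A scheme over a field whose closed points are translates of one point. -/
theorem fibreDimAt_eq_dim {P B : Scheme.{u}} [Subsingleton B] (q : P ⟶ B) [LocallyOfFiniteType q] [JacobsonSpace P]
    (z₀ : P) (h : ∀ z ∈ closedPoints P, ∃ τ : P ⟶ P, IsIso τ ∧ τ ≫ q = q ∧ τ z₀ = z) :
    FlatMor.fibreDimAt q z₀ = topologicalKrullDim P := by
  rw [← dim_fiber_eq q (q z₀)]
  refine le_antisymm (FibDimLib.fibreDimAt_le_fiber q z₀) ?_
  refine (FibDimLib.topologicalKrullDim_fiber_le_iff q _ _).2 fun z _ => ?_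
  obtain ⟨c, hzc, hc⟩ := nonempty_inter_closedPoints (Z := closure ({z} : Set P)) ⟨z, subset_closure rfl⟩
    isClosed_closure.isLocallyClosed
  refine (FibDimLib.fibreDimAt_le_of_specializes q (specializes_iff_mem_closure.2 hzc)).trans (le_of_eq ?_)
  obtain ⟨τ, hτ, hτq, rfl⟩ := h c hc
  exact (FibDimLib.fibreDimAt_baseChange (g := 𝟙 B) (IsPullback.of_horiz_isIso ⟨by simp [hτq]⟩) z₀).symm


variable {S : Scheme.{u}} {G X : Over S} [GrpObj G] (a : AlgGrp.Action G X)

/-- Closed points of a geometric stabiliser are translates of the identity. -/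
theorem exists_aut_stab {Ω : Type u} [Field Ω] [IsAlgClosed Ω] {T : Over S}
    (e : T.left ≅ Spec (CommRingCat.of Ω)) (f : T ⟶ X) (t : T.left) [LocallyOfFiniteType (GLinSh.stabTo a f)]
    (z : GLinSh.stab a f) (hz : z ∈ closedPoints (GLinSh.stab a f)) :
    ∃ τ : GLinSh.stab a f ⟶ GLinSh.stab a f, IsIso τ ∧ τ ≫ GLinSh.stabTo a f = GLinSh.stabTo a f ∧
      τ (unitSec a f t) = z := by
  haveI : Subsingleton T.left := (Scheme.homeoOfIso e).injective.subsingleton
  let qT := GLinSh.stabTo a f
  let gT := qT ≫ e.hom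
  haveI : LocallyOfFiniteType gT := inferInstance
  let p' := (pointEquivClosedPoint gT).symm ⟨z, hz⟩
  let p : T.left ⟶ GLinSh.stab a f := e.hom ≫ p'.1
  have hp : p ≫ qT = 𝟙 _ := by
    rw [← cancel_mono e.hom, Category.assoc, Category.assoc, Category.id_comp]
    exact (congrArg (e.hom ≫ ·) p'.2).trans (Category.comp_id _)
  have hpz : p t = z := by
    have h4 : (pointEquivClosedPoint gT p').1 = z := by rw [Equiv.apply_symm_apply]
    rw [← h4]
    show p'.1 (e.hom t) = _
    have : e.hom t = IsLocalRing.closedPoint Ω := Subsingleton.elim _ _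
    rw [this]
    rfl
  let m : T ⟶ G ⊗ T := Over.homMk (p ≫ pullback.fst _ _) (by
    rw [← Over.w (GIT.psi a f), Category.assoc, pullback.condition_assoc,
      show (lift f (𝟙 T)).left ≫ (X ⊗ T).hom = T.hom from Over.w _]
    exact (Category.assoc _ _ _).symm.trans ((congrArg (· ≫ T.hom) hp).trans (Category.id_comp _)))
  have hm : m ≫ GIT.psi a f = lift f (𝟙 T) := Over.OverMorphism.ext (by
    show (p ≫ pullback.fst _ _) ≫ _ = _
    rw [Category.assoc, pullback.condition]
    exact (Category.assoc _ _ _).symm.trans ((congrArg (· ≫ _) hp).trans (Category.id_comp _)))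
  have hm2 : m ≫ snd G T = 𝟙 T := by simpa [GIT.psi] using congrArg (· ≫ snd X T) hm
  have hml : m = lift (m ≫ fst G T) (𝟙 T) := by
    refine CartesianMonoidalCategory.hom_ext _ _ ?_ ?_ <;> simp [hm2]
  let g : GITAffLib.FixPts a f := ⟨m ≫ fst G T, by
    rw [hml, GITAffLib.lift_psi] at hm
    simpa using congrArg (· ≫ fst X T) hm⟩
  obtain ⟨τ, hτ1, hτ2⟩ := exists_transl_lift a g
  let g' : GITAffLib.FixPts a f := ⟨g.1⁻¹, by
    have h6 := GITAffLib.lift_mul_act a g.1⁻¹ g.1 f
    rw [inv_mul_cancel, GITAffLib.lift_one_act, g.2] at h6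
    exact h6.symm⟩
  obtain ⟨τ', hτ1', hτ2'⟩ := exists_transl_lift a g'
  haveI := mono_fst a f
  have hinv : τ ≫ τ' = 𝟙 _ ∧ τ' ≫ τ = 𝟙 _ := by
    constructor <;> rw [← cancel_mono (pullback.fst (GIT.psi a f).left (lift f (𝟙 T)).left)] <;>
      simp only [Category.assoc, hτ1, hτ1', reassoc_of% hτ1, reassoc_of% hτ1', ← Over.comp_left, transl_comp] <;>
      simp [g', transl_one]
  haveI : IsIso τ := ⟨τ', hinv.1, hinv.2⟩
  refine ⟨τ, inferInstance, hτ2, ?_⟩
  have h5 : unitSec a f ≫ τ = p := by
    rw [← cancel_mono (pullback.fst (GIT.psi a f).left (lift f (𝟙 T)).left), Category.assoc, hτ1,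
      ← Category.assoc, unitSec, pullback.lift_fst, ← Over.comp_left]
    show _ = m.left
    congr 1
    rw [hml]
    refine CartesianMonoidalCategory.hom_ext _ _ ?_ ?_ <;> simp [transl, g, MonObj.comp_mul]
  rw [← Scheme.Hom.comp_apply, h5, hpz]

theorem unitSec_comp {T : Over S} (f : T ⟶ X)
    (r : GLinSh.stab a f ⟶ GLinSh.stab a (𝟙 X)) (hr : r ≫ GLinSh.stabTo a (𝟙 X) = GLinSh.stabTo a f ≫ f.left)
    (hr' : r ≫ pullback.fst _ _ = pullback.fst _ _ ≫ (G ◁ f).left) :
    unitSec a f ≫ r = f.left ≫ unitSec a (𝟙 X) := by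
  apply pullback.hom_ext
  · rw [Category.assoc, Category.assoc, hr', unitSec, unitSec, pullback.lift_fst, pullback.lift_fst_assoc,
      ← Over.comp_left, ← Over.comp_left]
    congr 1
    refine CartesianMonoidalCategory.hom_ext _ _ ?_ ?_ <;> simp [MonObj.comp_one]
  · rw [Category.assoc, Category.assoc]
    show unitSec a f ≫ r ≫ GLinSh.stabTo a (𝟙 X) = f.left ≫ unitSec a (𝟙 X) ≫ GLinSh.stabTo a (𝟙 X)
    rw [hr, unitSec_stabTo, reassoc_of% unitSec_stabTo a f, Category.comp_id]

/-- The dimension of the stabiliser at the identity. -/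
def stabDim (x : X.left) : WithBot ℕ∞ :=
  FlatMor.fibreDimAt (GLinSh.stabTo a (𝟙 X)) (unitSec a (𝟙 X) x)

variable [LocallyOfFiniteType G.hom]

theorem lft_stabTo {T : Over S} (f : T ⟶ X) : LocallyOfFiniteType (GLinSh.stabTo a f) := by
  haveI h1 : LocallyOfFiniteType (snd G T).left := by
    rw [Over.snd_left]; exact MorphismProperty.pullback_snd _ _ inferInstance
  haveI : LocallyOfFiniteType ((GIT.psi a f).left ≫ (snd X T).left) := by
    rw [← Over.comp_left, psi_snd]; exact h1
  haveI : LocallyOfFiniteType (GIT.psi a f).left := locallyOfFiniteType_of_comp _ (snd X T).left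
  exact MorphismProperty.pullback_snd _ _ inferInstance

theorem stabDim_le_of_specializes {x' x : X.left} (h : x' ⤳ x) : stabDim a x' ≤ stabDim a x :=
  haveI := lft_stabTo a (𝟙 X)
  FibDimLib.fibreDimAt_le_of_specializes _ (h.map (unitSec a (𝟙 X)).continuous)

theorem exists_stabDim_eq_nat (x : X.left) : ∃ d : ℕ, stabDim a x = d :=
  haveI := lft_stabTo a (𝟙 X)
  UOpenLib.exists_fibreDimAt_eq_nat _ _

section Geom

variable {Ω : Type u} [Field Ω] (t : Spec (CommRingCat.of Ω) ⟶ S)

/-- The rational point of the base change given by a point. -/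
def ptBC (f : Over.mk t ⟶ X) : 𝟙_ (Over (Spec (CommRingCat.of Ω))) ⟶ Red.bc t X :=
  Over.homMk (pullback.lift f.left (𝟙 _) (by rw [Category.id_comp]; exact Over.w f)) (pullback.lift_snd _ _ _)

theorem psi_eq_orbitMap (f : Over.mk t ⟶ X) :
    (GIT.psi a f).left = ((Groth.Agent.NeutralSch.actBC t a).orbitMap (ptBC t f)).left := by
  let F := Over.pullback t
  let x := ptBC t f
  let a' := Groth.Agent.NeutralSch.actBC t a
  let m : Red.bc t G ⟶ F.obj (G ⊗ X) :=
    lift (𝟙 _) (toUnit _ ≫ x) ≫ Functor.LaxMonoidal.μ F G X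
  have h1 : m ≫ F.map (fst G X) = 𝟙 _ := by simp [m, F, Red.bc]
  have h2 : m ≫ F.map (snd G X) = toUnit _ ≫ x := by simp [m, F, Red.bc]
  have ho : a'.orbitMap x = m ≫ F.map a.act := by
    simp only [AlgGrp.Action.orbitMap, a', Groth.Agent.NeutralSch.actBC, m, Category.assoc]
    rfl
  have hm : m.left ≫ pullback.fst (G ⊗ X).hom t = (G ◁ f).left := by
    have e1 := congrArg (fun n => n.left ≫ pullback.fst G.hom t) h1
    have e2 := congrArg (fun n => n.left ≫ pullback.fst X.hom t) h2
    simp only [F, Over.comp_left, Over.pullback_map_left, Category.assoc, pullback.lift_fst, Over.id_left] at e1 e2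
    apply pullback.hom_ext
    · simpa using e1
    · have e3 : x.left ≫ pullback.fst X.hom t = f.left := pullback.lift_fst _ _ _
      simpa [Over.whiskerLeft_left_snd, e3] using e2
  apply pullback.hom_ext
  · rw [show (Groth.Agent.NeutralSch.actBC t a).orbitMap (ptBC t f) = m ≫ F.map a.act from ho, Over.comp_left,
      Category.assoc]
    show (GIT.psi a f).left ≫ (fst X (Over.mk t)).left =
      m.left ≫ (F.map a.act).left ≫ pullback.fst X.hom t
    rw [← Over.comp_left, GIT.psi, lift_fst, Over.comp_left]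
    simp only [F, Over.pullback_map_left, pullback.lift_fst]
    rw [← Category.assoc, hm]
  · show (GIT.psi a f).left ≫ (snd X (Over.mk t)).left = (a'.orbitMap x).left ≫ (Red.bc t X).hom
    rw [← Over.comp_left, psi_snd, Over.w]
    rfl

variable [IsAlgClosed Ω] [LocallyOfFiniteType X.hom]

theorem dim_stab (f : Over.mk t ⟶ X) (z : ↥(Over.mk t).left) :
    topologicalKrullDim (GLinSh.stab a f) = stabDim a (f.left z) := by
  haveI : Subsingleton ↥(Over.mk t).left := inferInstanceAs (Subsingleton (PrimeSpectrum Ω))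
  haveI := lft_stabTo a (𝟙 X)
  haveI := lft_stabTo a f
  obtain ⟨r, hr, hr'⟩ := isPullback_stab a f
  let q' : GLinSh.stab a f ⟶ Spec (CommRingCat.of Ω) := GLinSh.stabTo a f
  haveI : LocallyOfFiniteType q' := ‹LocallyOfFiniteType (GLinSh.stabTo a f)›
  haveI : JacobsonSpace (GLinSh.stab a f) := LocallyOfFiniteType.jacobsonSpace q'
  have h := fibreDimAt_eq_dim (GLinSh.stabTo a f) (unitSec a f z) fun w hw =>
    exists_aut_stab a (Iso.refl (Over.mk t).left) f z w hw
  rw [FibDimLib.fibreDimAt_baseChange hr] at h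
  rw [← h, stabDim]
  congr 1
  show (unitSec a f ≫ r) z = _
  rw [unitSec_comp a f r hr.w hr', Scheme.Hom.comp_apply]

variable [QuasiCompact G.hom] [QuasiCompact X.hom]

/-- Orbit and stabiliser dimensions add up to the dimension of the group. -/
theorem dim_add (f : Over.mk t ⟶ X) (z : ↥(Over.mk t).left) :
    topologicalKrullDim (G.hom.fiber (X.hom (f.left z))) =
      topologicalKrullDim (Set.range (GIT.psi a f).left) + stabDim a (f.left z) := by
  haveI : Subsingleton ↥(Over.mk t).left := inferInstanceAs (Subsingleton (PrimeSpectrum Ω))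
  haveI : LocallyOfFiniteType (Red.bc t G).hom := MorphismProperty.pullback_snd _ _ inferInstance
  haveI : QuasiCompact (Red.bc t G).hom := MorphismProperty.pullback_snd _ _ inferInstance
  haveI : LocallyOfFiniteType (Red.bc t X).hom := MorphismProperty.pullback_snd _ _ inferInstance
  haveI : QuasiCompact (Red.bc t X).hom := MorphismProperty.pullback_snd _ _ inferInstance
  have h := GLinStab.dim_eq_add (Groth.Agent.NeutralSch.actBC t a) (ptBC t f)
  have hG : topologicalKrullDim ↥(Red.bc t G).left = topologicalKrullDim (G.hom.fiber (X.hom (f.left z))) := by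
    have e : X.hom (f.left z) = t z := by
      rw [← Scheme.Hom.comp_apply, Over.w f]; rfl
    rw [e, ← FibDimLib.topologicalKrullDim_fiber_baseChange (IsPullback.of_hasPullback G.hom t) z, dim_fiber_eq]
    rfl
  have hl : (lift f (𝟙 (Over.mk t))).left = (ptBC t f).left := by
    apply pullback.hom_ext
    · show (lift f (𝟙 _)).left ≫ (fst X (Over.mk t)).left = _
      rw [← Over.comp_left, lift_fst]
      exact (pullback.lift_fst _ _ _).symm
    · show (lift f (𝟙 _)).left ≫ (snd X (Over.mk t)).left = _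
      rw [← Over.comp_left, lift_snd]
      exact (pullback.lift_snd _ _ _).symm
  rw [hG, OrbitLib.orbit, ← psi_eq_orbitMap] at h
  rw [h, ← dim_stab a t f z]
  show _ = _ + topologicalKrullDim ↥(pullback (GIT.psi a f).left (lift f (𝟙 (Over.mk t))).left)
  rw [hl]
  rfl

end Geom

end GLinStabGen
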