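import Groth.Agent.GLinStabLib.Dim
import Groth.Agent.GLinShLib.Stable

/-!
# Regular points and closed orbits
-/

set_option autoImplicit false
set_option backward.isDefEq.respectTransparency false
set_option synthInstance.maxHeartbeats 400000
set_option maxHeartbeats 1000000
set_option linter.style.haveILetI false
set_option linter.unusedSectionVars false

universe u

noncomputable section

open CategoryTheory CategoryTheory.Limits MonoidalCategory CartesianMonoidalCategory AlgebraicGeometry Topology Opposite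
open CoactBr
open scoped MonObj

namespace GLinStab

open GLinShLib

variable {k : Type u} [Field k] {G X : Over (Spec (CommRingCat.of k))} [GrpObj G]

section Quotient

variable {Y : Over (Spec (CommRingCat.of k))} {a : AlgGrp.Action G X} {φ : X ⟶ Y}
  [LocallyOfFiniteType G.hom] [QuasiCompact G.hom] [LocallyOfFiniteType X.hom] [QuasiCompact X.hom]
  [IsSeparated Y.hom]

/-- In a geometric quotient the dimensions of the fibre and of the stabiliser add up. -/
theorem fibreDimAt_add_stabDim (h : GIT.IsGeomQuot a φ) (x : X.left) :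
    topologicalKrullDim G.left = FlatMor.fibreDimAt φ.left x + stabDim a x := by
  obtain ⟨K, _, _, p, hp⟩ := Groth.Agent.GrpField.exists_geomPoint x
  let t : Spec (CommRingCat.of K) ⟶ Spec (CommRingCat.of k) := p ≫ X.hom
  let T : Over (Spec (CommRingCat.of k)) := Over.mk t
  let f : T ⟶ X := Over.homMk p rfl
  let z : T.left := IsLocalRing.closedPoint K
  haveI : Subsingleton T.left := inferInstanceAs (Subsingleton (PrimeSpectrum K))
  haveI : LocallyOfFiniteType φ.left := by
    haveI : LocallyOfFiniteType (φ.left ≫ Y.hom) := by rw [Over.w φ]; infer_instance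
    exact locallyOfFiniteType_of_comp φ.left Y.hom
  have sq := IsPullback.of_hasPullback φ (f ≫ φ)
  obtain ⟨a', he, hi⟩ := GITQuotLib.exists_action h.inv sq
  let pr := pullback.fst φ (f ≫ φ)
  let φ' := pullback.snd φ (f ≫ φ)
  let s := sq.lift f (𝟙 T) (Category.id_comp _).symm
  have hs : s ≫ φ' = 𝟙 T := sq.lift_snd _ _ _
  have hps : s ≫ pr = f := sq.lift_fst _ _ _
  let o := (G ◁ s) ≫ a'.act
  have hsurj := GITQuotLib.psiY_surjective_baseChange h.inv h.orbit sq a' he hi
  have huniv : ∀ w, w ∈ Set.range o.left := by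
    intro w
    let l : (pullback φ (f ≫ φ)).left ⟶ pullback φ'.left φ'.left :=
      pullback.lift (𝟙 _) (φ'.left ≫ s.left) (by
        rw [Category.id_comp, Category.assoc, ← Over.comp_left, hs, Over.id_left, Category.comp_id])
    obtain ⟨p', hp'⟩ := hsurj (l w)
    have h1 : a'.act.left p' = w := by
      have := congrArg (pullback.fst φ'.left φ'.left) hp'
      rw [← Scheme.Hom.comp_apply, ← Scheme.Hom.comp_apply, GIT.PsiY, pullback.lift_fst, pullback.lift_fst] at this
      exact this
    have h2 : (snd G (pullback φ (f ≫ φ))).left p' = s.left (φ'.left w) := by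
      have := congrArg (pullback.snd φ'.left φ'.left) hp'
      rw [← Scheme.Hom.comp_apply, ← Scheme.Hom.comp_apply, GIT.PsiY, pullback.lift_snd, pullback.lift_snd] at this
      exact this
    obtain ⟨q, rfl⟩ := GITAffLib.exists_whiskerLeft_preimage s p' _ h2
    exact ⟨q, h1⟩
  have sqs : IsPullback pr.left φ'.left φ.left (f ≫ φ).left := sq.map (Over.forget _)
  let q : (pullback φ (f ≫ φ)).left ⟶ Spec (CommRingCat.of K) := φ'.left
  haveI : LocallyOfFiniteType φ'.left := MorphismProperty.of_isPullback sqs inferInstance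
  haveI : LocallyOfFiniteType q := ‹LocallyOfFiniteType φ'.left›
  haveI : JacobsonSpace (pullback φ (f ≫ φ)).left := LocallyOfFiniteType.jacobsonSpace q
  haveI : LocallyOfFiniteType (snd G T).left := by
    rw [Over.snd_left]; exact MorphismProperty.pullback_snd _ _ inferInstance
  haveI : LocallyOfFiniteType (o.left ≫ φ'.left) := by
    rw [← Over.comp_left, GITAffLib.orbit_comp hi s hs]; infer_instance
  haveI : LocallyOfFiniteType o.left := locallyOfFiniteType_of_comp o.left φ'.left
  have hdim := fibreDimAt_eq_dim φ'.left (s.left z) fun c hc => by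
    let cp : T ⟶ pullback φ (f ≫ φ) := Over.homMk (pointOfClosedPoint q c hc) (by
      show pointOfClosedPoint q c hc ≫ _ = _
      rw [← Over.w φ']
      exact (Category.assoc _ _ _).symm.trans ((congrArg (· ≫ t) (pointOfClosedPoint_comp q c hc)).trans
        (Category.id_comp _)))
    have hcp : cp.left z = c := pointOfClosedPoint_apply q c hc z
    have hcs : cp ≫ φ' = 𝟙 T := Over.OverMorphism.ext (pointOfClosedPoint_comp q c hc)
    let P : Over (Spec (CommRingCat.of k)) := pullback φ (f ≫ φ)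
    -- a point of `G` carrying `s` to `c`
    have hg0 : ∃ g₀ : T ⟶ G, lift g₀ s ≫ a'.act = cp := by
      haveI : LocallyOfFiniteType (GIT.PsiY a' φ' hi) := by
        haveI : LocallyOfFiniteType (snd G P).left := by
          rw [Over.snd_left]; exact MorphismProperty.pullback_snd _ _ inferInstance
        haveI : LocallyOfFiniteType (GIT.PsiY a' φ' hi ≫ pullback.snd φ'.left φ'.left) := by
          rw [GIT.PsiY, pullback.lift_snd]; infer_instance
        exact locallyOfFiniteType_of_comp _ (pullback.snd φ'.left φ'.left)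
      let Q : Over (Spec (CommRingCat.of k)) := Over.mk (pullback.fst φ'.left φ'.left ≫ P.hom)
      let Ψ : G ⊗ P ⟶ Q := Over.homMk (GIT.PsiY a' φ' hi) (by
        show GIT.PsiY a' φ' hi ≫ pullback.fst φ'.left φ'.left ≫ P.hom = (G ⊗ P).hom
        rw [GIT.PsiY, pullback.lift_fst_assoc, Over.w a'.act])
      haveI : LocallyOfFiniteType Ψ.left := ‹LocallyOfFiniteType (GIT.PsiY a' φ' hi)›
      let pt : T ⟶ Q := Over.homMk (pullback.lift cp.left s.left (by
        rw [← Over.comp_left, ← Over.comp_left, hcs, hs])) (by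
        show pullback.lift cp.left s.left _ ≫ pullback.fst φ'.left φ'.left ≫ P.hom = T.hom
        rw [pullback.lift_fst_assoc]
        exact Over.w cp)
      obtain ⟨m, hm⟩ := GITAffLib.exists_lift_point (π := Ψ) hsurj (Iso.refl T.left) pt
      have hm1 : m ≫ a'.act = cp := Over.OverMorphism.ext (by
        have := congrArg (fun n => n.left ≫ pullback.fst φ'.left φ'.left) hm
        simp only [Over.comp_left, Category.assoc, Ψ, pt, Over.homMk_left, GIT.PsiY, pullback.lift_fst] at this
        exact this)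
      have hm2 : m ≫ snd G P = s := Over.OverMorphism.ext (by
        have := congrArg (fun n => n.left ≫ pullback.snd φ'.left φ'.left) hm
        simp only [Over.comp_left, Category.assoc, Ψ, pt, Over.homMk_left, GIT.PsiY, pullback.lift_snd] at this
        exact this)
      refine ⟨m ≫ fst G P, ?_⟩
      rw [← hm1, ← hm2, ← comp_lift, lift_fst_snd, Category.comp_id]
    obtain ⟨g₀, hg0⟩ := hg0
    let τ : (T ⟶ G) → (P ⟶ P) := fun g => lift (φ' ≫ g) (𝟙 P) ≫ a'.act
    have hτφ : ∀ g, τ g ≫ φ' = φ' := fun g => by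
      simp only [τ, Category.assoc, show a'.act ≫ φ' = snd G P ≫ φ' from hi, lift_snd_assoc, Category.id_comp]
    have hτc : ∀ g g', τ g ≫ τ g' = τ (g' * g) := fun g g' => by
      show τ g ≫ lift (φ' ≫ g') (𝟙 P) ≫ a'.act = _
      rw [comp_lift_assoc, ← Category.assoc, hτφ, Category.comp_id]
      simp only [τ]
      rw [← GITAffLib.lift_mul_act, ← MonObj.comp_mul]
    have hτ1 : τ 1 = 𝟙 P := by simp only [τ, MonObj.comp_one, GITAffLib.lift_one_act]
    haveI : IsIso (τ g₀) := ⟨τ g₀⁻¹, by rw [hτc, inv_mul_cancel, hτ1], by rw [hτc, mul_inv_cancel, hτ1]⟩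
    refine ⟨(τ g₀).left, inferInstanceAs (IsIso ((Over.forget _).map (τ g₀))), congrArg CommaMorphism.left (hτφ g₀), ?_⟩
    have e : s ≫ τ g₀ = cp := by
      simp only [τ]
      rw [comp_lift_assoc, ← Category.assoc, hs, Category.id_comp, Category.comp_id]
      exact hg0
    rw [← Scheme.Hom.comp_apply, ← Over.comp_left, e, hcp]
  rw [FibDimLib.fibreDimAt_baseChange sqs, show pr.left (s.left z) = x from (by
    rw [← Scheme.Hom.comp_apply, ← Over.comp_left, hps]; exact hp z)] at hdim
  have hadd := dim_add a t f z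
  rw [show f.left z = x from hp z] at hadd
  rw [hdim, hadd]
  congr 1
  have e : Set.range (GIT.psi a f).left = (lift pr φ').left '' Set.univ := by
    have e1 := GITAffLib.orbit_comp_lift he hi s hs
    rw [hps] at e1
    rw [← e1, Over.comp_left, Scheme.Hom.comp_base, TopCat.coe_comp, Set.range_comp,
      Set.eq_univ_of_forall huniv]
  haveI : IsImmersion (lift pr φ').left := by
    have e : (lift pr φ').left = sqs.isoPullback.hom ≫ pullback.mapDesc φ.left (f ≫ φ).left Y.hom ≫
        (pullback.congrHom (Over.w φ) (Over.w (f ≫ φ))).hom := by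
      apply pullback.hom_ext <;> simp [pullback.mapDesc]
    rw [e]
    infer_instance
  rw [e, Set.image_univ]
  exact (IsHomeomorph.topologicalKrullDim_eq _ (lift pr φ').left.isEmbedding.toHomeomorph.isHomeomorph).symm

/-- The dimension of stabilisers is locally constant on a geometric quotient. -/
theorem isOpen_stabDim_eq (h : GIT.IsGeomQuot a φ) (x : X.left) :
    ∃ W : X.left.Opens, x ∈ W ∧ ∀ y ∈ W, stabDim a y = stabDim a x := by
  haveI : LocallyOfFiniteType φ.left := by
    haveI : LocallyOfFiniteType (φ.left ≫ Y.hom) := by rw [Over.w φ]; infer_instance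
    exact locallyOfFiniteType_of_comp φ.left Y.hom
  refine ⟨⟨{y | stabDim a y ≤ stabDim a x} ∩ {y | FlatMor.fibreDimAt φ.left y ≤ FlatMor.fibreDimAt φ.left x},
    (isOpen_stabDim_le a _).inter (FibDimLib.isOpen_fibreDimAt_le φ.left _)⟩, ⟨le_refl (stabDim a x), le_refl (FlatMor.fibreDimAt φ.left x)⟩, ?_⟩
  intro y hy
  have e := (fibreDimAt_add_stabDim h y).symm.trans (fibreDimAt_add_stabDim h x)
  obtain ⟨n, hn⟩ := UOpenLib.exists_fibreDimAt_eq_nat φ.left x
  obtain ⟨n', hn'⟩ := UOpenLib.exists_fibreDimAt_eq_nat φ.left y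
  obtain ⟨d, hd⟩ := exists_stabDim_eq_nat a x
  obtain ⟨d', hd'⟩ := exists_stabDim_eq_nat a y
  have h1 : stabDim a y ≤ stabDim a x := hy.1
  have h2 : FlatMor.fibreDimAt φ.left y ≤ FlatMor.fibreDimAt φ.left x := hy.2
  rw [hn, hn', hd, hd'] at e
  rw [hd, hd'] at h1 ⊢
  rw [hn, hn'] at h2
  have h1' : d' ≤ d := by exact_mod_cast h1
  have h2' : n' ≤ n := by exact_mod_cast h2
  have e' : n' + d' = n + d := by exact_mod_cast e
  exact congrArg _ (by omega)

end Quotient

variable {a : AlgGrp.Action G X}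

theorem psi_openHom {U : X.left.Opens} {aU : AlgGrp.Action G (openObj U)}
    (he : aU.act ≫ openHom U = (G ◁ openHom U) ≫ a.act) {T : Over (Spec (CommRingCat.of k))} (f : T ⟶ openObj U) :
    Set.range (GIT.psi a (f ≫ openHom U)).left = (openHom U ▷ T).left '' Set.range (GIT.psi aU f).left ∧
      IsOpenImmersion (openHom U ▷ T).left ∧
      Set.range (openHom U ▷ T).left = ((fst X T).left ⁻¹ᵁ U : Set (X ⊗ T).left) := by
  have e : GIT.psi aU f ≫ (openHom U ▷ T) = GIT.psi a (f ≫ openHom U) := by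
    refine CartesianMonoidalCategory.hom_ext _ _ ?_ ?_
    · simp [GIT.psi, he]
    · simp [GIT.psi]
  have sq := (GITAffLib.isPullback_whiskerRight (openHom U) T).map (Over.forget _)
  haveI hoi : IsOpenImmersion (openHom U ▷ T).left :=
    MorphismProperty.of_isPullback sq (show IsOpenImmersion U.ι from inferInstance)
  refine ⟨?_, hoi, Set.Subset.antisymm ?_ fun p hp => ?_⟩
  · rw [← e, Over.comp_left, Scheme.Hom.comp_base, TopCat.coe_comp, Set.range_comp]
  · rintro _ ⟨q, rfl⟩
    show ((openHom U ▷ T) ≫ fst X T).left q ∈ U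
    rw [whiskerRight_fst]
    exact ((fst (openObj U) T).left q).2
  · obtain ⟨w, hw⟩ : ∃ w, (openHom U).left w = (fst X T).left p := ⟨⟨_, hp⟩, rfl⟩
    have hex := Scheme.exists_preimage_of_isPullback sq
    first
      | (obtain ⟨q, hq, -⟩ := hex p w hw.symm; exact ⟨q, hq⟩)
      | (obtain ⟨q, -, hq⟩ := hex w p hw; exact ⟨q, hq⟩)

variable [LocallyOfFiniteType G.hom] [QuasiCompact G.hom] [LocallyOfFiniteType X.hom] [QuasiCompact X.hom]

/-- Stabiliser dimensions do not change on an invariant open. -/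
theorem stabDim_restrict {U : X.left.Opens} {aU : AlgGrp.Action G (openObj U)}
    [QuasiCompact (openObj U).hom] (he : aU.act ≫ openHom U = (G ◁ openHom U) ≫ a.act)
    (x : (openObj U).left) : stabDim aU x = stabDim a ((openHom U).left x) := by
  haveI : LocallyOfFiniteType (openObj U).hom := inferInstanceAs (LocallyOfFiniteType (U.ι ≫ X.hom))
  obtain ⟨K, _, _, p, hp⟩ := Groth.Agent.GrpField.exists_geomPoint x
  let t : Spec (CommRingCat.of K) ⟶ Spec (CommRingCat.of k) := p ≫ (openObj U).hom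
  let f : Over.mk t ⟶ openObj U := Over.homMk p rfl
  let z : ↥(Over.mk t).left := IsLocalRing.closedPoint K
  obtain ⟨e, hoi, -⟩ := psi_openHom he f
  haveI := hoi
  obtain ⟨n, m, d, hn, hm, hd, hsum⟩ := exists_dims aU t f z
  obtain ⟨n', m', d', hn', hm', hd', hsum'⟩ := exists_dims a t (f ≫ openHom U) z
  have hfz : f.left z = x := hp z
  rw [Over.comp_left, Scheme.Hom.comp_apply, hfz] at hd'
  rw [hfz] at hd
  rw [hd, hd']
  rw [e, ← IsHomeomorph.topologicalKrullDim_eq _
    ((openHom U ▷ Over.mk t).left.isEmbedding.homeomorphImage _).isHomeomorph, hm] at hm'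
  rw [hn] at hn'
  obtain rfl : n = n' := by exact_mod_cast hn'
  obtain rfl : m = m' := by exact_mod_cast hm'
  exact congrArg _ (by omega)

omit [LocallyOfFiniteType G.hom] [QuasiCompact G.hom] [LocallyOfFiniteType X.hom] [QuasiCompact X.hom] in
/-- Orbits closed in a saturated open are closed upstairs. -/
theorem isClosed_orbit_of_saturated {U O : X.left.Opens} {aU : AlgGrp.Action G (openObj U)}
    (he : aU.act ≫ openHom U = (G ◁ openHom U) ≫ a.act) {Y : Over (Spec (CommRingCat.of k))}
    {φ : openObj U ⟶ Y} (hi : GIT.IsInvariant aU φ) [IsSeparated Y.hom] {W : Y.left.Opens}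
    (hW : φ.left ⁻¹ᵁ W = U.ι ⁻¹ᵁ O) {T : Over (Spec (CommRingCat.of k))}
    (f : T ⟶ openObj U) (hfO : ∀ t, (openHom U).left (f.left t) ∈ O)
    (hcl : IsClosed ((fun p : (fst X T).left ⁻¹ᵁ O => (p : (X ⊗ T).left)) ⁻¹'
      Set.range (GIT.psi a (f ≫ openHom U)).left.base)) :
    IsClosed (Set.range (GIT.psi aU f).left) ∧
      IsClosed ((fun p : (fst X T).left ⁻¹ᵁ U => (p : (X ⊗ T).left)) ⁻¹'
        Set.range (GIT.psi a (f ≫ openHom U)).left.base) := by
  obtain ⟨e, hoi, hr⟩ := psi_openHom he f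
  haveI := hoi
  let j := (openHom U ▷ T).left
  let σ : T ⟶ Y ⊗ T := lift (f ≫ φ) (𝟙 T)
  have hσ : GIT.psi aU f ≫ (φ ▷ T) = snd G T ≫ σ := by
    refine CartesianMonoidalCategory.hom_ext _ _ ?_ ?_
    · simp only [GIT.psi, σ, Category.assoc, whiskerRight_fst, lift_fst, lift_fst_assoc]
      rw [show aU.act ≫ φ = snd G _ ≫ φ from hi, whiskerLeft_snd_assoc]
    · simp [GIT.psi, σ]
  haveI : IsSeparated (snd Y T).left := by
    rw [Over.snd_left]; exact MorphismProperty.pullback_snd _ _ inferInstance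
  have hσs : σ.left ≫ (snd Y T).left = 𝟙 _ := by rw [← Over.comp_left, lift_snd, Over.id_left]
  haveI : IsClosedImmersion σ.left := by
    haveI : IsClosedImmersion (σ.left ≫ (snd Y T).left) := by rw [hσs]; infer_instance
    exact IsClosedImmersion.of_comp σ.left (snd Y T).left
  have hclC : IsClosed (Set.range (GIT.psi aU f).left) := by
    have hsub : closure (Set.range (GIT.psi aU f).left) ⊆ (φ ▷ T).left ⁻¹' Set.range σ.left := by
      refine closure_minimal ?_ (σ.left.isClosedEmbedding.isClosed_range.preimage (φ ▷ T).left.continuous)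
      rintro _ ⟨q, rfl⟩
      refine ⟨(snd G T).left q, ?_⟩
      rw [← Scheme.Hom.comp_apply, ← Scheme.Hom.comp_apply, ← Over.comp_left, ← Over.comp_left, hσ]
    refine isClosed_of_closure_subset fun w hw => ?_
    have hwO : j w ∈ (fst X T).left ⁻¹ᵁ O := by
      obtain ⟨s, hs⟩ := hsub hw
      show ((openHom U ▷ T) ≫ fst X T).left w ∈ O
      rw [whiskerRight_fst, Over.comp_left, Scheme.Hom.comp_apply]
      refine hW.le ?_
      show ((fst (openObj U) T) ≫ φ).left w ∈ W
      rw [← whiskerRight_fst φ T, Over.comp_left, Scheme.Hom.comp_apply, ← hs, ← Scheme.Hom.comp_apply,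
        ← Over.comp_left, lift_fst, Over.comp_left, Scheme.Hom.comp_apply]
      exact hW.ge (hfO s)
    have h1 : j w ∈ closure (Set.range (GIT.psi a (f ≫ openHom U)).left) := by
      rw [e]
      exact image_closure_subset_closure_image j.continuous ⟨w, hw, rfl⟩
    have h2 : (⟨j w, hwO⟩ : (fst X T).left ⁻¹ᵁ O) ∈
        closure ((fun p : (fst X T).left ⁻¹ᵁ O => (p : (X ⊗ T).left)) ⁻¹'
          Set.range (GIT.psi a (f ≫ openHom U)).left) := by
      refine closure_subtype.2 ?_
      refine closure_mono ?_ (((fst X T).left ⁻¹ᵁ O).isOpen.inter_closure ⟨hwO, h1⟩)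
      rintro q ⟨hq₁, hq₂⟩
      exact ⟨⟨q, hq₁⟩, hq₂, rfl⟩
    rw [hcl.closure_eq] at h2
    have h3 : j w ∈ (openHom U ▷ T).left '' Set.range (GIT.psi aU f).left := e ▸ h2
    obtain ⟨w', hw', he'⟩ := h3
    rwa [← (openHom U ▷ T).left.isOpenEmbedding.injective he']
  refine ⟨hclC, ?_⟩
  rw [e]
  rw [← isOpen_compl_iff]
  have : ((fun p : (fst X T).left ⁻¹ᵁ U => (p : (X ⊗ T).left)) ⁻¹' (j '' Set.range (GIT.psi aU f).left))ᶜ =
      (fun p : (fst X T).left ⁻¹ᵁ U => (p : (X ⊗ T).left)) ⁻¹' (j '' (Set.range (GIT.psi aU f).left)ᶜ) := by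
    ext p
    obtain ⟨q, hq⟩ := hr.ge p.2
    simp only [Set.mem_compl_iff, Set.mem_preimage, Set.mem_image]
    constructor
    · exact fun h => ⟨q, fun hq' => h ⟨q, hq', hq⟩, hq⟩
    · rintro ⟨q', hq', he'⟩ ⟨q'', hq'', he''⟩
      exact hq' ((openHom U ▷ T).left.isOpenEmbedding.injective (he''.trans he'.symm) ▸ hq'')
  rw [this]
  exact ((openHom U ▷ T).left.isOpenEmbedding.isOpenMap _ hclC.isOpen_compl).preimage continuous_subtype_val

variable {A : Type u} [CommRing A] [HopfAlgebra k A] {w : sp k A ⟶ G} [IsMonHom w] [IsIso w] {β : A →ₗ[k] k}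

omit [LocallyOfFiniteType G.hom] [QuasiCompact G.hom] [LocallyOfFiniteType X.hom] [QuasiCompact X.hom] in
/-- A closed invariant set meeting the fibre of a closed orbit contains it. -/
theorem mem_of_closed_orbit {Z Y : Over (Spec (CommRingCat.of k))} {aZ : AlgGrp.Action G Z} {φ : Z ⟶ Y}
    (hP : GITAffLib.HasProps aZ φ) (hi : GIT.IsInvariant aZ φ) {W : Set Z.left} (hWc : IsClosed W)
    (hWi : OrbitLib.Invariant aZ W) {Ω : Type u} [Field Ω]
    {T : Over (Spec (CommRingCat.of k))} (eT : T.left ≅ Spec (CommRingCat.of Ω)) (f : T ⟶ Z)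
    (hcl : IsClosed (Set.range (GIT.psi aZ f).left.base)) (t : T.left) {z : Z.left} (hz : z ∈ W)
    (hzf : φ.left z = φ.left (f.left t)) : f.left t ∈ W := by
  haveI : IsAffine T.left := IsAffine.of_isIso eT.hom
  haveI : Subsingleton T.left := (Scheme.homeoOfIso eT).injective.subsingleton
  have sq := IsPullback.of_hasPullback φ (f ≫ φ)
  obtain ⟨a', he, hi'⟩ := GITQuotLib.exists_action hi sq
  let pr := pullback.fst φ (f ≫ φ)
  let φ' := pullback.snd φ (f ≫ φ)
  let s := sq.lift f (𝟙 T) (Category.id_comp _).symm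
  have hs : s ≫ φ' = 𝟙 T := sq.lift_snd _ _ _
  have hps : s ≫ pr = f := sq.lift_fst _ _ _
  have hO := GITAffLib.isClosed_orbit sq he hi' s hs (by rw [hps]; exact hcl)
  let O₁ := Set.range ((G ◁ s) ≫ a'.act).left
  let W₂ := pr.left ⁻¹' W
  let Ws : ULift.{u} Bool → Set (pullback φ (f ≫ φ)).left := fun i => if i.down then O₁ else W₂
  have hne : ∀ i, t ∈ φ'.left '' Ws i := by
    rintro ⟨b⟩
    cases b
    · obtain ⟨z', hz', -⟩ := Scheme.exists_preimage_of_isPullback (sq.map (Over.forget _)) z t hzf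
      exact ⟨z', show pr.left z' ∈ W from hz' ▸ hz, Subsingleton.elim _ _⟩
    · refine ⟨s.left t, ⟨(lift (1 : T ⟶ G) (𝟙 T)).left t, ?_⟩, Subsingleton.elim _ _⟩
      rw [← Scheme.Hom.comp_apply, ← Over.comp_left, lift_whiskerLeft_assoc, Category.id_comp,
        GITAffLib.lift_one_act]
  have hclosed : ∀ i, IsClosed (Ws i) := by
    rintro ⟨b⟩
    cases b
    · exact hWc.preimage pr.left.continuous
    · exact hO
  have hinv : ∀ i p, (snd G _).left p ∈ Ws i → a'.act.left p ∈ Ws i := by
    rintro ⟨b⟩ p hp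
    cases b
    · show (a'.act ≫ pr).left p ∈ W
      rw [he, Over.comp_left, Scheme.Hom.comp_apply]
      refine hWi.ge (show (snd G Z).left ((G ◁ pr).left p) ∈ W from ?_)
      rw [← Scheme.Hom.comp_apply, ← Over.comp_left, whiskerLeft_snd]
      exact hp
    · exact GITAffLib.orbit_invariant a' s p hp
  have hinter := (hP sq a' he hi').inter (ULift.{u} Bool) Ws hclosed hinv
  have ht : t ∈ φ'.left '' ⋂ i, Ws i := by
    rw [hinter]; exact Set.mem_iInter.2 hne
  obtain ⟨p, hp, -⟩ := ht
  obtain ⟨q, rfl⟩ : p ∈ O₁ := Set.mem_iInter.1 hp ⟨true⟩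
  have hqW : (((G ◁ s) ≫ a'.act) ≫ pr).left q ∈ W := Set.mem_iInter.1 hp ⟨false⟩
  rw [Category.assoc, he, ← MonoidalCategory.whiskerLeft_comp_assoc, hps, Over.comp_left, Scheme.Hom.comp_apply]
    at hqW
  have h2 : (snd G Z).left ((G ◁ f).left q) ∈ W := hWi.le hqW
  rw [← Scheme.Hom.comp_apply, ← Over.comp_left, whiskerLeft_snd, Over.comp_left, Scheme.Hom.comp_apply,
    Subsingleton.elim ((snd G T).left q) t] at h2
  exact h2

omit [LocallyOfFiniteType G.hom] in
/-- The non-vanishing locus of an invariant function on `X_f` is the locus of an invariant section. -/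
theorem exists_nv_basicOpen {B : GLinSh.LinBun G a} {n : ℕ} {f : Γ(B.V.left, ⊤)} (hf : B.IsInvSection n f)
    (hn : 1 ≤ n) (s : Γ(X.left, nv hf.1)) (hs : IsInvFun (isInvOpen_nv hf) s) :
    ∃ (m : ℕ) (F : Γ(B.V.left, ⊤)), 1 ≤ m ∧ B.IsInvSection m F ∧
      GLinSh.nonvanishing B.π F = (X.left.basicOpen s : Set X.left) := by
  haveI : IsLocallyNoetherian X.left := LocallyOfFiniteType.isLocallyNoetherian X.hom
  haveI : CompactSpace X.left := QuasiCompact.compactSpace_of_compactSpace X.hom
  obtain ⟨M₀, hM₀, hext⟩ := exists_extension hf s hs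
  obtain ⟨F, hF, hFr⟩ := hext M₀ le_rfl
  have hfM := isInvSection_pow hf M₀
  have key : ∀ (O : X.left.Opens), nv hfM.1 = O → ∀ h : Γ(X.left, O), IsRatio O 1 1 (f ^ M₀) F h →
      X.left.basicOpen h = nv hfM.1 ⊓ nv hF.1 := by
    rintro O rfl h hh
    exact basicOpen_ratio' one_ne_zero hfM.1 hF.1 hh
  refine ⟨_, f ^ M₀ * F, ?_, isInvSection_mul hfM hF, ?_⟩
  · have : 0 < n * M₀ := Nat.mul_pos hn hM₀
    omega
  · rw [key _ (show nv hfM.1 = nv hf.1 from TopologicalSpace.Opens.ext (nonvanishing_pow f hM₀)) s hFr, ← nv_mul hfM.1 hF.1]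
    rfl

end GLinStab
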