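import Groth.Agent.GLinStabLib.RegLocus

/-!
# Stable points through the semistable quotient
-/

set_option autoImplicit false
set_option backward.isDefEq.respectTransparency false
set_option synthInstance.maxHeartbeats 400000
set_option maxHeartbeats 1000000
set_option linter.style.haveILetI false
set_option linter.unusedSectionVars false

universe u

noncomputable section

open CategoryTheory CategoryTheory.Limits MonoidalCategory CartesianMonoidalCategory AlgebraicGeometry Topology Opposite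
open CoactBr
open scoped MonObj

namespace GLinStab

open GLinShLib

variable {k : Type u} [Field k] {G X : Over (Spec (CommRingCat.of k))} [GrpObj G] {a : AlgGrp.Action G X}
  {A : Type u} [CommRing A] [HopfAlgebra k A] {w : sp k A ⟶ G} [IsMonHom w] [IsIso w] {β : A →ₗ[k] k}

/-- The semistable quotient together with what the stability criteria use. -/
structure SSQuot (w : sp k A ⟶ G) [IsMonHom w] [IsIso w] (β : A →ₗ[k] k) (B : GLinSh.LinBun G a)
    (U : X.left.Opens) where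
  /-- the action -/
  aU : AlgGrp.Action G (openObj U)
  he : aU.act ≫ openHom U = (G ◁ openHom U) ≫ a.act
  /-- the target -/
  Y : Over (Spec (CommRingCat.of k))
  /-- the quotient map -/
  φ : openObj U ⟶ Y
  inv : GIT.IsInvariant aU φ
  aff : IsAffineHom φ.left
  good : IsUnivGood w β aU φ
  sep : IsSeparated Y.hom
  chart : ∀ y : Y.left, ∃ (n : ℕ) (f : Γ(B.V.left, ⊤)) (hf : B.IsInvSection n f) (V : Y.left.Opens),
    1 ≤ n ∧ y ∈ V ∧ IsAffineOpen V ∧ IsAffineOpen (nv hf.1) ∧ nv hf.1 ≤ U ∧ φ.left ⁻¹ᵁ V = U.ι ⁻¹ᵁ nv hf.1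
  sat : ∀ {n : ℕ} {f : Γ(B.V.left, ⊤)} (hf : B.IsInvSection n f),
    ∃ W : Y.left.Opens, φ.left ⁻¹ᵁ W = U.ι ⁻¹ᵁ nv hf.1

theorem exists_ssQuot (hβ : ComodLib.IsInvariant β) (h1 : β 1 = 1) (hlr : HopfRep.IsLinearlyReductive k A)
    [LocallyOfFiniteType X.hom] [QuasiCompact X.hom] [QuasiCompact G.hom] (B : GLinSh.LinBun G a)
    {U : X.left.Opens} (hU : (U : Set X.left) = B.ssLocus) : Nonempty (SSQuot w β B U) := by
  obtain ⟨r, N, F, hF, K, hN, hD, hUK⟩ := exists_quotData B w hβ h1 hlr hU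
  have hUinv : IsInvOpen a U := by
    refine isInvOpen_iff fun p hp => ?_
    rw [hUK, TopologicalSpace.Opens.mem_iSup] at hp ⊢
    obtain ⟨j, hj⟩ := hp
    exact ⟨j, (isInvOpen_nv (hF j.1)).ge hj⟩
  obtain ⟨aU, he⟩ := exists_action hUinv
  obtain ⟨Y, φ, hi, haff, hgood, hsep, -, hch, -⟩ := exists_quot w hβ h1 hD hUK aU he
  haveI := haff
  refine ⟨⟨aU, he, Y, φ, hi, haff, hgood, hsep, fun y => ?_, fun hf =>
    exists_saturated hβ h1 hN hUK he hi hgood
      (fun j hj => (hch j hj).elim fun V hV => ⟨V, hV.2⟩) hf⟩⟩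
  obtain ⟨x, rfl⟩ := GITQuotLib.univCat_surjective ((hgood.hasProps hβ h1).main hi).1 y
  obtain ⟨j, hj⟩ := TopologicalSpace.Opens.mem_iSup.1 (hUK.le (show (openHom U).left x ∈ U from x.2))
  obtain ⟨V, hVa, hV⟩ := hch j.1 j.2
  exact ⟨N, F j.1, hF j.1, V, hN, hV.ge hj, hVa, hD.aff j.1 j.2, hUK ▸ le_iSup (fun j : K => Nj hF j.1) j, hV⟩

variable {B : GLinSh.LinBun G a} {U : X.left.Opens}

theorem nv_le_ssLocus (hU : (U : Set X.left) = B.ssLocus) {n : ℕ} {f : Γ(B.V.left, ⊤)} (hn : 1 ≤ n)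
    (hf : B.IsInvSection n f) (haff : IsAffineOpen (nv hf.1)) : nv hf.1 ≤ U := fun z hz => by
  show z ∈ (U : Set X.left)
  rw [hU]
  exact ⟨n, f, hn, hf, hz, nv hf.1, rfl, haff⟩

theorem exists_lift_openObj {T : Over (Spec (CommRingCat.of k))} (g : T ⟶ X) (h : ∀ t, g.left t ∈ U) :
    ∃ g' : T ⟶ openObj U, g' ≫ openHom U = g := by
  have hr : Set.range g.left ⊆ Set.range U.ι := by
    rintro _ ⟨t, rfl⟩
    rw [Scheme.Opens.range_ι]
    exact h t
  exact ⟨Over.homMk (IsOpenImmersion.lift U.ι g.left hr) (by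
    show IsOpenImmersion.lift U.ι g.left hr ≫ U.ι ≫ X.hom = T.hom
    rw [IsOpenImmersion.lift_fac_assoc, Over.w g]), Over.OverMorphism.ext (IsOpenImmersion.lift_fac _ _ _)⟩

variable [LocallyOfFiniteType G.hom] [QuasiCompact G.hom] [LocallyOfFiniteType X.hom] [QuasiCompact X.hom]

/-- Closed orbits on an affine `X_f` force regularity. -/
theorem exists_stabDim_const (Q : SSQuot w β B U) (hβ : ComodLib.IsInvariant β) (h1 : β 1 = 1) {n : ℕ}
    {f : Γ(B.V.left, ⊤)} (hf : B.IsInvSection n f) (hle : nv hf.1 ≤ U) (hcl : GLinSh.ClosedOrbitsOn a (nv hf.1))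
    {x : X.left} (hx : x ∈ nv hf.1) :
    ∃ W : X.left.Opens, x ∈ W ∧ ∀ y ∈ W, stabDim a y = stabDim a x := by
  haveI := Q.aff
  haveI := Q.sep
  obtain ⟨W, hW⟩ := Q.sat hf
  set O := nv hf.1
  have hO : IsInvOpen a O := isInvOpen_nv hf
  obtain ⟨aO, haO⟩ := exists_action hO
  let pr : openObj O ⟶ openObj U := Over.homMk (X.left.homOfLE hle) (by
    show X.left.homOfLE hle ≫ U.ι ≫ X.hom = O.ι ≫ X.hom
    rw [Scheme.homOfLE_ι_assoc])
  have hpr : pr ≫ openHom U = openHom O := Over.OverMorphism.ext (Scheme.homOfLE_ι X.left hle)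
  have hr : Set.range (pr ≫ Q.φ).left ⊆ Set.range W.ι := by
    rintro _ ⟨z, rfl⟩
    rw [Scheme.Opens.range_ι]
    refine hW.ge ?_
    show (pr ≫ openHom U).left z ∈ O
    rw [hpr]
    exact z.2
  let φs : openObj O ⟶ openObj W := Over.homMk (IsOpenImmersion.lift W.ι _ hr) (by
    show IsOpenImmersion.lift W.ι _ hr ≫ W.ι ≫ Q.Y.hom = O.ι ≫ X.hom
    rw [IsOpenImmersion.lift_fac_assoc, Over.w (pr ≫ Q.φ)]
    rfl)
  have hφs : φs ≫ openHom W = pr ≫ Q.φ := Over.OverMorphism.ext (IsOpenImmersion.lift_fac _ _ _)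
  haveI : IsOpenImmersion pr.left := inferInstanceAs (IsOpenImmersion (X.left.homOfLE hle))
  have sq : IsPullback pr φs Q.φ (openHom W) := by
    refine IsPullback.of_map (Over.forget _) hφs.symm ?_
    refine (IsOpenImmersion.isPullback φs.left pr.left (openHom W).left Q.φ.left
      (congrArg CommaMorphism.left hφs).symm ?_).flip
    rw [show (openHom W).left.opensRange = W from Scheme.Opens.opensRange_ι _, hW]
    refine TopologicalSpace.Opens.ext (Set.Subset.antisymm (fun z hz => ⟨⟨U.ι z, hz⟩, Subtype.ext ?_⟩) ?_)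
    · show (pr ≫ openHom U).left _ = U.ι z
      rw [hpr]
      rfl
    · rintro _ ⟨z, rfl⟩
      show (pr ≫ openHom U).left z ∈ O
      rw [hpr]
      exact z.2
  have hea : aO.act ≫ pr = (G ◁ pr) ≫ Q.aU.act := by
    rw [← cancel_mono (openHom U), Category.assoc, Category.assoc, hpr, haO, Q.he,
      ← MonoidalCategory.whiskerLeft_comp_assoc, hpr]
  have hgeo := (isUnifGeomQuot_of_closed hβ h1 Q.he Q.inv Q.good sq aO hea fun y =>
    ⟨⊤, trivial, O, hO, hcl, fun z _ => by rw [hpr]; exact z.2⟩).1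
  haveI : LocallyOfFiniteType (openObj O).hom := inferInstanceAs (LocallyOfFiniteType (O.ι ≫ X.hom))
  haveI : QuasiCompact (openObj O).hom := by
    haveI : IsLocallyNoetherian X.left := LocallyOfFiniteType.isLocallyNoetherian X.hom
    haveI : CompactSpace X.left := QuasiCompact.compactSpace_of_compactSpace X.hom
    haveI : IsNoetherian X.left := {}
    haveI : CompactSpace (openObj O).left :=
      isCompact_iff_compactSpace.1 (TopologicalSpace.NoetherianSpace.isCompact (O : Set X.left))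
    exact quasiCompact_of_compactSpace _
  haveI : IsSeparated (openObj W).hom := inferInstanceAs (IsSeparated (W.ι ≫ Q.Y.hom))
  obtain ⟨W', hxW', hW'⟩ := isOpen_stabDim_eq hgeo ⟨x, hx⟩
  refine ⟨O.ι ''ᵁ W', ⟨⟨x, hx⟩, hxW', rfl⟩, ?_⟩
  rintro _ ⟨y, hy, rfl⟩
  have := hW' y hy
  rw [stabDim_restrict haO, stabDim_restrict haO] at this
  exact this

/-- A regular point with closed orbit in an affine `X_f` is stable. -/
theorem isStablePt_of_regular (Q : SSQuot w β B U) (hβ : ComodLib.IsInvariant β) (h1 : β 1 = 1) {x : X.left}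
    {W₀ : X.left.Opens} (hxW : x ∈ W₀) (hconst : ∀ y ∈ W₀, stabDim a y = stabDim a x) {n : ℕ}
    {f : Γ(B.V.left, ⊤)} (hf : B.IsInvSection n f) (hle : nv hf.1 ≤ U) (hx : x ∈ nv hf.1)
    (hcl : ∀ (Ω : Type u) [Field Ω] [IsAlgClosed Ω] (T : Over (Spec (CommRingCat.of k)))
      (_ : T.left ≅ Spec (CommRingCat.of Ω)) (g : T ⟶ X), Set.range g.left.base = {x} →
        IsClosed ((fun p : (fst X T).left ⁻¹ᵁ nv hf.1 => (p : (X ⊗ T).left)) ⁻¹' Set.range (GIT.psi a g).left.base)) :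
    B.IsStablePt x := by
  haveI := Q.aff
  haveI := Q.sep
  have hP : GITAffLib.HasProps Q.aU Q.φ := Q.good.hasProps hβ h1
  let S : Set X.left := {y | stabDim a y ≠ stabDim a x}
  have hS : OrbitLib.Invariant a S := by
    ext p
    simp only [S, Set.mem_preimage, Set.mem_setOf_eq, stabDim_act]
  let Z : Set (openObj U).left := (openHom U).left ⁻¹' closure S
  have hZc : IsClosed Z := isClosed_closure.preimage (openHom U).left.continuous
  have hZi : OrbitLib.Invariant Q.aU Z := by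
    have hS' := (hS.closure a)
    ext p
    show (Q.aU.act ≫ openHom U).left p ∈ closure S ↔ (snd G (openObj U) ≫ openHom U).left p ∈ closure S
    rw [Q.he, ← whiskerLeft_snd G (openHom U)]
    simp only [Over.comp_left, Scheme.Hom.comp_apply]
    exact Set.ext_iff.1 hS' _
  let xU : (openObj U).left := ⟨x, hle hx⟩
  have hxS : x ∉ closure S := fun h => by
    obtain ⟨y, hyW, hyS⟩ := mem_closure_iff.1 h W₀ W₀.isOpen hxW
    exact hyS (hconst y hyW)
  obtain ⟨W, hW⟩ := Q.sat hf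
  obtain ⟨Ω, _, _, p, hp⟩ := Groth.Agent.GrpField.exists_geomPoint x
  let T : Over (Spec (CommRingCat.of k)) := Over.mk (p ≫ X.hom)
  let g : T ⟶ X := Over.homMk p rfl
  obtain ⟨gU, hgU⟩ := exists_lift_openObj (U := U) g fun t => by
    show p t ∈ U
    rw [hp]; exact hle hx
  let t₀ : T.left := IsLocalRing.closedPoint Ω
  have hgx : ∀ t, (openHom U).left (gU.left t) = x := fun t => by
    rw [← Scheme.Hom.comp_apply, ← Over.comp_left, hgU]; exact hp t
  have horb := (isClosed_orbit_of_saturated Q.he Q.inv hW gU (fun t => by rw [hgx]; exact hx) (by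
    rw [hgU]
    exact hcl Ω T (Iso.refl _) g (Set.Subset.antisymm (by rintro _ ⟨t, rfl⟩; exact hp t)
      (by rintro _ rfl; exact ⟨t₀, hp t₀⟩)))).1
  have hgU0 : gU.left t₀ = xU := Subtype.ext (hgx t₀)
  have himg : Q.φ.left xU ∉ Q.φ.left '' Z := by
    rintro ⟨z, hz, hzx⟩
    have := mem_of_closed_orbit hP Q.inv hZc hZi (Iso.refl T.left) gU horb t₀ hz (by rw [hgU0]; exact hzx)
    rw [hgU0] at this
    exact hxS this
  obtain ⟨m, h, hh, V, hm, hyV, hVa, hNa, hNU, hV⟩ := Q.chart (Q.φ.left xU)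
  have sqV := GITQuotLib.isPullback_restrict Q.φ V
  obtain ⟨a₁, he₁, hi₁⟩ := GITQuotLib.exists_action Q.inv sqV
  haveI : IsAffine (Over.mk (V.ι ≫ Q.Y.hom)).left := hVa
  have hclosed := (hP sqV a₁ he₁ hi₁).closed ((Q.φ.left ⁻¹ᵁ V).ι ⁻¹' Z)
    (hZc.preimage (Q.φ.left ⁻¹ᵁ V).ι.continuous) (fun p hp => by
      show (Q.φ.left ⁻¹ᵁ V).ι (a₁.act.left p) ∈ Z
      have e1 := congrArg (fun m => m.left p) he₁
      simp only [Over.comp_left, Scheme.Hom.comp_apply, Over.homMk_left] at e1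
      erw [e1]
      refine hZi.ge (show (snd G (openObj U)).left _ ∈ Z from ?_)
      rw [← Scheme.Hom.comp_apply, ← Over.comp_left, whiskerLeft_snd, Over.comp_left, Scheme.Hom.comp_apply]
      exact hp)
  -- an open of `V` around `φ x` avoiding the image of `Z`
  let C : Set V.toScheme := (Q.φ.left ∣_ V) '' ((Q.φ.left ⁻¹ᵁ V).ι ⁻¹' Z)
  have hC : IsClosed C := hclosed
  let V₁ : Q.Y.left.Opens := (V.ι ''ᵁ ⟨Cᶜ, hC.isOpen_compl⟩) ⊓ W
  have hxV₁ : Q.φ.left xU ∈ V₁ := by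
    refine ⟨⟨⟨Q.φ.left xU, hyV⟩, ?_, rfl⟩, hW.ge hx⟩
    rintro ⟨z, hz, hzx⟩
    refine himg ⟨(Q.φ.left ⁻¹ᵁ V).ι z, hz, ?_⟩
    rw [← Scheme.Hom.comp_apply, ← morphismRestrict_ι, Scheme.Hom.comp_apply, hzx]
    rfl
  obtain ⟨s, hsV₁, hxs⟩ := hVa.exists_basicOpen_le ⟨Q.φ.left xU, hxV₁⟩ hyV
  -- pull the function back to the affine locus
  let ι₁ : openObj (nv hh.1) ⟶ openObj U := Over.homMk (X.left.homOfLE hNU) (by
    show X.left.homOfLE hNU ≫ U.ι ≫ X.hom = (nv hh.1).ι ≫ X.hom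
    rw [Scheme.homOfLE_ι_assoc])
  have hι₁ : ι₁ ≫ openHom U = openHom (nv hh.1) := Over.OverMorphism.ext (Scheme.homOfLE_ι X.left hNU)
  obtain ⟨aN, haN⟩ := exists_action (isInvOpen_nv hh)
  have hψ : aN.act ≫ ι₁ ≫ Q.φ = snd G _ ≫ ι₁ ≫ Q.φ := by
    have : aN.act ≫ ι₁ = (G ◁ ι₁) ≫ Q.aU.act := by
      rw [← cancel_mono (openHom U), Category.assoc, Category.assoc, hι₁, haN, Q.he,
        ← MonoidalCategory.whiskerLeft_comp_assoc, hι₁]
    rw [reassoc_of% this, show Q.aU.act ≫ Q.φ = snd G _ ≫ Q.φ from Q.inv, whiskerLeft_snd_assoc]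
  let ψ := ι₁ ≫ Q.φ
  have hψV : (⊤ : (openObj (nv hh.1)).left.Opens) ≤ ψ.left ⁻¹ᵁ V := fun z _ => by
    refine hV.ge ?_
    show (ι₁ ≫ openHom U).left z ∈ nv hh.1
    rw [hι₁]
    exact z.2
  have bι := GITQuotLib.appLE_bij (openHom (nv hh.1)).left (top_eq_preimage_openHom (nv hh.1))
    (Scheme.Opens.opensRange_ι _).ge
  obtain ⟨s', hs'⟩ := bι.2 (ψ.left.appLE V ⊤ hψV s)
  have hs'inv : IsInvFun (isInvOpen_nv hh) s' := by
    refine (appTop_invariant_iff (isInvOpen_nv hh) aN haN s').1 ?_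
    rw [hs', Scheme.Hom.appTop, Scheme.Hom.appTop, Scheme.Hom.app_eq_appLE, Scheme.Hom.app_eq_appLE,
      ← ConcreteCategory.comp_apply, ← ConcreteCategory.comp_apply, Scheme.Hom.appLE_comp_appLE,
      Scheme.Hom.appLE_comp_appLE]
    have e : aN.act.left ≫ ψ.left = (snd G (openObj (nv hh.1))).left ≫ ψ.left :=
      congrArg CommaMorphism.left hψ
    simp only [e]
    rfl
  obtain ⟨N, F, hN, hF, hFnv⟩ := exists_nv_basicOpen hh hm s' hs'inv
  have hbo : X.left.basicOpen s' = nv hh.1 ⊓ (openHom U).left ''ᵁ (Q.φ.left ⁻¹ᵁ Q.Y.left.basicOpen s) := by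
    ext z
    by_cases hz : z ∈ nv hh.1
    · have e1 : (openHom (nv hh.1)).left ⁻¹ᵁ X.left.basicOpen s' = ψ.left ⁻¹ᵁ Q.Y.left.basicOpen s := by
        have := congrArg (openObj (nv hh.1)).left.basicOpen hs'
        rw [Scheme.basicOpen_appLE, Scheme.basicOpen_appLE, top_inf_eq, top_inf_eq] at this
        exact this
      have e2 := SetLike.ext_iff.1 e1 ⟨z, hz⟩
      refine e2.trans ⟨fun h => ⟨hz, ι₁.left ⟨z, hz⟩, h, ?_⟩, ?_⟩
      · show (ι₁ ≫ openHom U).left ⟨z, hz⟩ = z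
        rw [hι₁]
        rfl
      · rintro ⟨-, u, hu, huz⟩
        have : ι₁.left ⟨z, hz⟩ = u := by
          refine U.ι.isOpenEmbedding.injective (Eq.trans ?_ huz.symm)
          show (ι₁ ≫ openHom U).left ⟨z, hz⟩ = z
          rw [hι₁]
          rfl
        show Q.φ.left (ι₁.left ⟨z, hz⟩) ∈ Q.Y.left.basicOpen s
        rw [this]
        exact hu
    · exact ⟨fun h => absurd (X.left.basicOpen_le s' h) hz, fun h => absurd h.1 hz⟩
  have hFaff : IsAffineOpen (nv hF.1) := by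
    rw [← nv_congr hF.1 (X.left.basicOpen s') hFnv.symm]
    exact hNa.basicOpen s'
  have hxF : x ∈ nv hF.1 := by
    show x ∈ GLinSh.nonvanishing B.π F
    rw [hFnv]
    refine hbo.ge ⟨?_, xU, hxs, rfl⟩
    exact hV.le hyV
  have hconstF : ∀ y ∈ nv hF.1, stabDim a y = stabDim a x := by
    intro y hy
    rw [← nv_congr hF.1 (X.left.basicOpen s') hFnv.symm] at hy
    obtain ⟨-, u, hu, rfl⟩ := hbo.le hy
    by_contra hne
    have hu₁ : Q.φ.left u ∈ V₁ := hsV₁ hu
    obtain ⟨v, hv, hvu⟩ := hu₁.1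
    obtain ⟨u', hu'⟩ : ∃ u', (Q.φ.left ⁻¹ᵁ V).ι u' = u := ⟨⟨u, Q.Y.left.basicOpen_le s hu⟩, rfl⟩
    refine hv ⟨u', ?_, ?_⟩
    · show (Q.φ.left ⁻¹ᵁ V).ι u' ∈ Z
      rw [hu']
      exact subset_closure hne
    · refine V.ι.isOpenEmbedding.injective (Eq.trans ?_ hvu.symm)
      rw [← Scheme.Hom.comp_apply, morphismRestrict_ι, Scheme.Hom.comp_apply, hu']
  exact ⟨N, F, hN, hF, hxF, nv hF.1, rfl, hFaff, closedOrbitsOn_of_const a hconstF⟩

end GLinStab
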